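import Groth.Agent.QuotLib.BaseChange
import Groth.Agent.QuotLib.Exists

/-!
# Quotients commute with base change when the order of the group is invertible
-/

noncomputable section

universe u

open CategoryTheory CategoryTheory.Limits AlgebraicGeometry TopologicalSpace Opposite
open scoped TensorProduct

namespace SymProdCmp

variable {X Y X' Y' : Scheme.{u}} {G : Type u} [Group G] [Finite G] {ρ : G →* Aut X} {p : X ⟶ Y}
  {qY : Y' ⟶ Y} {pX : X' ⟶ X} {p' : X' ⟶ Y'} {ρ' : G →* Aut X'}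

theorem isQuot_baseChange_affine_of_isUnit [IsAffine X] [IsAffine Y] [IsAffine Y']
    (hN : IsUnit (Nat.card G : Γ(Y', ⊤))) (hp : SGA1.IsQuot ρ p)
    (hX : IsPullback pX p' p qY) (hρ₁ : ∀ g : G, (ρ' g).hom ≫ pX = pX ≫ (ρ g).hom)
    (hρ₂ : ∀ g : G, (ρ' g).hom ≫ p' = p') : SGA1.IsQuot ρ' p' := by
  classical
  haveI := hp.affine
  haveI := Fintype.ofFinite G
  haveI : IsAffine X' := .of_isPullback hX.flip
  have hpo := (isPushout_appTop_of_isPullback hX).flip
  algebraize [qY.appTop.hom, p.appTop.hom, p'.appTop.hom, pX.appTop.hom, (pX.appTop.hom.comp p.appTop.hom)]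
  have hw : ∀ r, p'.appTop.hom (qY.appTop.hom r) = pX.appTop.hom (p.appTop.hom r) := fun r => by
    rw [← CommRingCat.comp_apply, ← CommRingCat.comp_apply, hpo.w]
  haveI : IsScalarTower Γ(Y, ⊤) Γ(Y', ⊤) Γ(X', ⊤) := IsScalarTower.of_algebraMap_eq fun r => (hw r).symm
  haveI hP : Algebra.IsPushout Γ(Y, ⊤) Γ(Y', ⊤) Γ(X, ⊤) Γ(X', ⊤) :=
    CommRingCat.isPushout_iff_isPushout.1 hpo
  let e := Algebra.IsPushout.equiv Γ(Y, ⊤) Γ(Y', ⊤) Γ(X, ⊤) Γ(X', ⊤)
  let act : G → Γ(X, ⊤) →ₗ[Γ(Y, ⊤)] Γ(X, ⊤) := fun g =>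
    { (ρ g).hom.appTop.hom with
      map_smul' := fun r s => by
        show (ρ g).hom.appTop.hom (p.appTop.hom r * s) = p.appTop.hom r * (ρ g).hom.appTop.hom s
        rw [map_mul, QuotLib.appTop_inv hp.inv] }
  have hact : ∀ g z, (ρ' g).hom.appTop.hom (e z) = e ((act g).lTensor Γ(Y', ⊤) z) := fun g z => by
    induction z using TensorProduct.induction_on with
    | zero => simp
    | add z w hz hw => simp [map_add, hz, hw]
    | tmul b s =>
      rw [LinearMap.lTensor_tmul]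
      simp only [e, Algebra.IsPushout.equiv_tmul, map_mul]
      congr 1
      · exact QuotLib.appTop_inv hρ₂ g b
      · show (ρ' g).hom.appTop.hom (pX.appTop.hom s) = pX.appTop.hom ((ρ g).hom.appTop.hom s)
        rw [← CommRingCat.comp_apply, ← CommRingCat.comp_apply, ← Scheme.Hom.comp_appTop, ← Scheme.Hom.comp_appTop, hρ₁]
  have hone : ∀ b : Γ(Y', ⊤), p'.appTop.hom b =
      e ((Algebra.linearMap Γ(Y, ⊤) Γ(X, ⊤)).lTensor Γ(Y', ⊤) (b ⊗ₜ 1)) := fun b => by
    rw [LinearMap.lTensor_tmul, Algebra.linearMap_apply, map_one, Algebra.IsPushout.equiv_tmul, map_one, mul_one]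
    rfl
  let ι := Algebra.linearMap Γ(Y, ⊤) Γ(X, ⊤)
  have hinjA : Function.Injective ι := hp.injective ⊤
  have hsum : ∀ s : Γ(X, ⊤), ∃ t, ι t = ∑ g : G, act g s := fun s => by
    obtain ⟨t, ht⟩ := QuotLib.appTop_mem_range hp (∑ g : G, act g s) fun h => by
      rw [map_sum]
      refine Fintype.sum_equiv (Equiv.mulRight h) _ _ fun g => ?_
      change ((ρ g).hom.appTop ≫ (ρ h).hom.appTop).hom s = (ρ _).hom.appTop.hom s
      rw [← Scheme.Hom.comp_appTop, ← QuotLib.act_mul, Equiv.coe_mulRight]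
    exact ⟨t, ht⟩
  choose t ht using hsum
  let τ : Γ(X, ⊤) →ₗ[Γ(Y, ⊤)] Γ(Y, ⊤) :=
    { toFun := t
      map_add' := fun a b => hinjA (by simp only [map_add, ht, Finset.sum_add_distrib])
      map_smul' := fun c a => hinjA (by simp only [map_smul, ht, Finset.smul_sum, RingHom.id_apply]) }
  have hτι : τ ∘ₗ ι = (Nat.card G) • LinearMap.id := by
    refine LinearMap.ext fun b => hinjA ?_
    change ι (t (ι b)) = ι (Nat.card G • b)
    rw [ht, Finset.sum_congr rfl fun g _ => (show act g (ι b) = ι b from QuotLib.appTop_inv hp.inv g b), Finset.sum_const,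
      Finset.card_univ, ← Nat.card_eq_fintype_card, map_nsmul]
  refine QuotLib.isQuot_of_affine hρ₂ (fun a b h => ?_) fun z hz => ?_
  · rw [hone, hone] at h
    have h2 := congrArg (τ.lTensor Γ(Y', ⊤)) (e.injective h)
    rw [← LinearMap.comp_apply, ← LinearMap.comp_apply, ← LinearMap.lTensor_comp, show τ ∘ₗ Algebra.linearMap Γ(Y, ⊤) Γ(X, ⊤) = _ from hτι] at h2
    have h3 := congrArg (TensorProduct.rid Γ(Y, ⊤) Γ(Y', ⊤)) h2
    simp only [LinearMap.lTensor_tmul, LinearMap.smul_apply, LinearMap.id_apply, TensorProduct.rid_tmul,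
      smul_assoc, one_smul] at h3
    rw [nsmul_eq_mul, nsmul_eq_mul] at h3
    exact hN.mul_left_cancel h3
  · obtain ⟨w, rfl⟩ := e.surjective z
    obtain ⟨c, hc⟩ := hN.exists_left_inv
    refine ⟨c * TensorProduct.rid Γ(Y, ⊤) Γ(Y', ⊤) (τ.lTensor Γ(Y', ⊤) w), ?_⟩
    have h1 : p'.appTop.hom (TensorProduct.rid Γ(Y, ⊤) Γ(Y', ⊤) (τ.lTensor Γ(Y', ⊤) w)) =
        (Nat.card G : Γ(X', ⊤)) * e w := by
      rw [hone]
      have e1 : TensorProduct.rid Γ(Y, ⊤) Γ(Y', ⊤) (τ.lTensor Γ(Y', ⊤) w) ⊗ₜ[Γ(Y, ⊤)] (1 : Γ(Y, ⊤)) =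
          τ.lTensor Γ(Y', ⊤) w :=
        (TensorProduct.rid Γ(Y, ⊤) Γ(Y', ⊤)).symm_apply_apply _
      rw [e1, ← LinearMap.comp_apply, ← LinearMap.lTensor_comp,
        show ι ∘ₗ τ = ∑ g : G, act g from LinearMap.ext fun s => (ht s).trans (LinearMap.sum_apply _ _ _).symm]
      rw [show (∑ g : G, act g).lTensor Γ(Y', ⊤) = ∑ g : G, (act g).lTensor Γ(Y', ⊤) from
        map_sum (LinearMap.lTensorHom Γ(Y', ⊤)) _ _, LinearMap.sum_apply, map_sum,
        Finset.sum_congr rfl fun g _ => ((hact g w).symm.trans (hz g)), Finset.sum_const, Finset.card_univ,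
        nsmul_eq_mul, Nat.card_eq_fintype_card]
    rw [map_mul, h1, ← mul_assoc, ← map_natCast p'.appTop.hom, ← map_mul, hc, map_one, one_mul]

/-- Quotients commute with base change to a scheme where the order of the group is invertible. -/
theorem isQuot_baseChange_of_isUnit (hN : IsUnit (Nat.card G : Γ(Y', ⊤))) (hp : SGA1.IsQuot ρ p)
    (hX : IsPullback pX p' p qY) (hρ₁ : ∀ g : G, (ρ' g).hom ≫ pX = pX ≫ (ρ g).hom)
    (hρ₂ : ∀ g : G, (ρ' g).hom ≫ p' = p') : SGA1.IsQuot ρ' p' := by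
  choose U hU hyU _ using fun y : Y' => QuotLib.exists_affine (show qY y ∈ (⊤ : Y.Opens) from trivial)
  choose U' hU' hyU' hle using fun y : Y' => QuotLib.exists_affine (show y ∈ qY ⁻¹ᵁ U y from hyU y)
  refine QuotLib.isQuot_of_cover hρ₂ U' (fun y => ⟨y, hyU' y⟩) fun y => ?_
  haveI : IsAffine (U y).toScheme := hU y
  haveI : IsAffine (U' y).toScheme := hU' y
  haveI := QuotLib.isAffine_preimage hp (hU y)
  have hle2 : p' ⁻¹ᵁ U' y ≤ pX ⁻¹ᵁ (p ⁻¹ᵁ U y) := by
    intro x hx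
    show p (pX x) ∈ U y
    rw [← Scheme.Hom.comp_apply, hX.w, Scheme.Hom.comp_apply]
    exact hle y hx
  have hN' : IsUnit (Nat.card G : Γ((U' y).toScheme, ⊤)) := by
    have := hN.map (U' y).ι.appTop.hom
    rwa [map_natCast] at this
  have hsq : IsPullback (pX.resLE (p ⁻¹ᵁ U y) (p' ⁻¹ᵁ U' y) hle2) (p' ∣_ U' y) (p ∣_ U y)
      (qY.resLE (U y) (U' y) (hle y)) := by
    refine IsPullback.of_right (h₁₂ := (p ⁻¹ᵁ U y).ι) (v₁₃ := p) (h₂₂ := (U y).ι) ?_ ?_
      (isPullback_morphismRestrict p (U y)).flip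
    · rw [Scheme.Hom.resLE_comp_ι, Scheme.Hom.resLE_comp_ι]
      exact (isPullback_morphismRestrict p' (U' y)).flip.paste_horiz hX
    · rw [← cancel_mono (U y).ι, Category.assoc, Category.assoc, morphismRestrict_ι, Scheme.Hom.resLE_comp_ι,
        Scheme.Hom.resLE_comp_ι_assoc, morphismRestrict_ι_assoc, hX.w]
  refine isQuot_baseChange_affine_of_isUnit hN' (QuotLib.isQuot_restrictAct hp (U y)) hsq (fun g => ?_) fun g => ?_
  · rw [← cancel_mono (p ⁻¹ᵁ U y).ι, Category.assoc, Category.assoc, Scheme.Hom.resLE_comp_ι, QuotLib.restrictAct_ι,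
      Scheme.Hom.resLE_comp_ι_assoc, ← Category.assoc, QuotLib.restrictAct_ι, Category.assoc, hρ₁]
  · rw [← cancel_mono (U' y).ι, Category.assoc, morphismRestrict_ι, ← Category.assoc, QuotLib.restrictAct_ι,
      Category.assoc, hρ₂]

end SymProdCmp
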