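import Groth.Agent.SymProdCmpLib.CmpLocal
import Groth.Agent.QuotLib.GeomOrbit
import Mathlib.AlgebraicGeometry.Morphisms.Integral

/-!
# The comparison of symmetric products
-/

set_option autoImplicit false
set_option backward.isDefEq.respectTransparency false
set_option backward.isDefEq.respectTransparency.types false
noncomputable section

universe u

open CategoryTheory CategoryTheory.Limits AlgebraicGeometry TopologicalSpace SymProd
open scoped TensorProduct

namespace SymProdCmp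

section General

variable {A B : Scheme.{u}}

/-- An affine morphism surjective on sections over an affine cover is a closed immersion. -/
theorem isClosedImmersion_of_cover (f : A ⟶ B) [IsAffineHom f] {ι : Type*} (U : ι → B.Opens)
    (hU : ∀ i, IsAffineOpen (U i)) (hcov : ∀ b, ∃ i, b ∈ U i) (hs : ∀ i, Function.Surjective (f.app (U i))) :
    IsClosedImmersion f := by
  refine IsZariskiLocalAtTarget.of_iSup_eq_top (P := @IsClosedImmersion) U
    (eq_top_iff.2 fun b _ => Opens.mem_iSup.2 (hcov b)) fun i => ?_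
  haveI : IsAffine (U i).toScheme := hU i
  haveI : IsAffine (f ⁻¹ᵁ U i).toScheme := (hU i).preimage f
  refine IsClosedImmersion.of_surjective_of_isAffine _ fun x => ?_
  have key : ∀ (O : B.Opens) (_ : O = U i), Function.Surjective (f.app O) := by rintro O rfl; exact hs i
  rw [morphismRestrict_appTop]
  have h1 : Function.Surjective (f.app ((U i).ι ''ᵁ ⊤)) := key _ (Scheme.Opens.ι_image_top _)
  obtain ⟨y, hy⟩ := (ConcreteCategory.bijective_of_isIso
    ((A.presheaf.map (eqToHom (image_morphismRestrict_preimage f (U i) ⊤)).op))).2 x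
  obtain ⟨z, rfl⟩ := h1 y
  exact ⟨z, hy⟩

/-- A value in a residue field of a point of an affine open is a quotient of values of sections. -/
theorem exists_eval_div {U : A.Opens} (hU : IsAffineOpen U) (x : A) (hx : x ∈ U) (c : A.residueField x) :
    ∃ a s : Γ(A, U), A.evaluation U x hx s ≠ 0 ∧ c * A.evaluation U x hx s = A.evaluation U x hx a := by
  obtain ⟨c, rfl⟩ := A.residue_surjective x c
  letI := A.presheaf.algebra_section_stalk ⟨x, hx⟩
  haveI := hU.isLocalization_stalk ⟨x, hx⟩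
  obtain ⟨⟨a, s⟩, hs⟩ := IsLocalization.surj (hU.primeIdealOf ⟨x, hx⟩).asIdeal.primeCompl c
  refine ⟨a, s.1, ?_, ?_⟩
  · have : IsUnit ((A.residue x).hom (algebraMap Γ(A, U) (A.presheaf.stalk x) s.1)) :=
      (IsLocalization.map_units (A.presheaf.stalk x) s).map _
    exact this.ne_zero
  · exact (map_mul (A.residue x).hom c _).symm.trans (congrArg (A.residue x).hom hs)

theorem isIntegral_appLE_of_eq (M : A ⟶ B) [IsIntegralHom M] {U : B.Opens} (hU : IsAffineOpen U) {V : A.Opens}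
    (hV : V = M ⁻¹ᵁ U) : (M.appLE U V hV.le).hom.IsIntegral := by
  subst hV
  rw [Scheme.Hom.appLE_eq_app]
  exact IsIntegralHom.isIntegral_app M U hU

variable {G : Type u} [Group G] [Finite G] {ρ : G →* Aut A} {p : A ⟶ B}

theorem quot_injective_appLE (hp : SGA1.IsQuot ρ p) {U : B.Opens} {V : A.Opens} (hV : V = p ⁻¹ᵁ U) :
    Function.Injective (p.appLE U V hV.le).hom := by
  subst hV
  rw [Scheme.Hom.appLE_eq_app]
  exact hp.injective U

theorem quot_mem_range_appLE (hp : SGA1.IsQuot ρ p) {U : B.Opens} {V : A.Opens} (hV : V = p ⁻¹ᵁ U) (s : Γ(A, V))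
    (hs : ∀ g : G, ∀ e, ((ρ g).hom.appLE V V e).hom s = s) : ∃ t, (p.appLE U V hV.le).hom t = s := by
  subst hV
  rw [Scheme.Hom.appLE_eq_app]
  exact (hp.range_iff U s).2 fun g => hs g _

end General

variable {X S Y X' S' Y' : Scheme.{u}} {f : X ⟶ S} {d : ℕ} {q : fibPow f d ⟶ Y} {g : Y ⟶ S}

/-- The affine opens of a base change of a symmetric product. -/
abbrev cmpOpen (g : Y ⟶ S) (gS : S' ⟶ S) (VY : Y.Opens) (S₀' : S'.Opens) : (pullback g gS).Opens :=
  pullback.fst g gS ⁻¹ᵁ VY ⊓ pullback.snd g gS ⁻¹ᵁ S₀'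

theorem isAffineOpen_cmpOpen (g : Y ⟶ S) (gS : S' ⟶ S) {S₀ : S.Opens} (hS₀ : IsAffineOpen S₀) {VY : Y.Opens}
    (hVY : IsAffineOpen VY) (hle : VY ≤ g ⁻¹ᵁ S₀) {S₀' : S'.Opens} (hS₀' : IsAffineOpen S₀') (hle' : S₀' ≤ gS ⁻¹ᵁ S₀) :
    IsAffineOpen (cmpOpen g gS VY S₀') := by
  haveI : IsClosedImmersion (pullback.lift (pullback.fst g gS) (pullback.snd g gS) pullback.condition) := by
    rw [show pullback.lift (pullback.fst g gS) (pullback.snd g gS) pullback.condition = 𝟙 _ by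
      apply pullback.hom_ext <;> simp]
    infer_instance
  exact (isAffineOpen_inter_and_span g (pullback.snd g gS) gS (pullback.fst g gS) pullback.condition hVY hS₀ hle
    hS₀' hle').1

theorem exists_col (f : X ⟶ S) {d : ℕ} (z : fibPow f d) {S₀ : S.Opens} (hS₀ : IsAffineOpen S₀)
    (hz : WidePullback.base (fun _ : Fin d => f) z ∈ S₀) : ∃ C : Col f d, C.S₀ = S₀ ∧ z ∈ C.V := by
  have : ∀ i : Fin d, ∃ U : X.Opens, IsAffineOpen U ∧ WidePullback.π (fun _ : Fin d => f) i z ∈ U ∧ U ≤ f ⁻¹ᵁ S₀ :=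
    fun i => QuotLib.exists_affine (show f (WidePullback.π (fun _ : Fin d => f) i z) ∈ S₀ by
      rwa [← Scheme.Hom.comp_apply, WidePullback.π_arrow])
  choose U hU hm hle using this
  refine ⟨{ S₀ := S₀, hS₀ := hS₀, J := ULift.{u} (Fin d), c := ULift.up, U := fun j => U j.down,
            hU := fun j => hU j.down, hle := fun j => hle j.down }, rfl, ?_⟩
  exact (Col.mem_V _).2 ⟨hz, fun i => hm i⟩

variable (f' : X' ⟶ S') (gS : S' ⟶ S) (h : X' ⟶ X) (w : h ≫ f = f' ≫ gS) [IsClosedImmersion (pullback.lift h f' w)]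

theorem span_Φ (C : Col f d) (S₀' : S'.Opens) (hS₀' : IsAffineOpen S₀') (hle' : S₀' ≤ gS ⁻¹ᵁ C.S₀) :
    Submodule.span (C.primed f' gS h w S₀' hS₀' hle').R
      (C.Φ f' gS h w S₀' hS₀' hle' '' Set.range (PiTensorProduct.tprod C.R (s := fun _ : Fin d => C.A))) = ⊤ := by
  classical
  set C' := C.primed f' gS h w S₀' hS₀' hle'
  set N := Submodule.span C'.R (C.Φ f' gS h w S₀' hS₀' hle' '' Set.range (PiTensorProduct.tprod C.R (s := fun _ : Fin d => C.A)))
  let Adj := Algebra.adjoin C'.R (C.Φ f' gS h w S₀' hS₀' hle' '' Set.range (PiTensorProduct.tprod C.R (s := fun _ : Fin d => C.A)))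
  have hAdj : ∀ t ∈ Adj, t ∈ N := fun t ht => by
    refine Submodule.span_mono ?_ ((SetLike.ext_iff.1 (Algebra.adjoin_eq_span (R := C'.R) _) t).1 ht)
    intro x hx
    induction hx using Submonoid.closure_induction with
    | mem x hx => exact hx
    | one =>
      refine ⟨1, ⟨fun _ => 1, ?_⟩, map_one _⟩
      exact (PiTensorProduct.one_def (R := C.R) (A := fun _ : Fin d => C.A)).symm
    | mul x y _ _ hx hy =>
      obtain ⟨_, ⟨a, rfl⟩, rfl⟩ := hx
      obtain ⟨_, ⟨b, rfl⟩, rfl⟩ := hy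
      exact ⟨_, ⟨a * b, rfl⟩, by rw [← map_mul, PiTensorProduct.tprod_mul_tprod]⟩
  have hsingle : ∀ (i : Fin d) (a : C'.A),
      PiTensorProduct.singleAlgHom (R := C'.R) (A := fun _ : Fin d => C'.A) i a ∈ Adj := fun i a => by
    have ha : a ∈ Submodule.span C'.R (Set.range (C.φ f' gS h w S₀' hS₀' hle')) := by
      rw [span_φ]; trivial
    induction ha using Submodule.span_induction with
    | mem x hx =>
      obtain ⟨x, rfl⟩ := hx
      refine Algebra.subset_adjoin ⟨_, ⟨Pi.mulSingle i x, rfl⟩, ?_⟩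
      rw [Φ_tprod]
      have : C.φ f' gS h w S₀' hS₀' hle' ∘ Pi.mulSingle i x = Pi.mulSingle i (C.φ f' gS h w S₀' hS₀' hle' x) := by
        funext j
        rcases eq_or_ne j i with rfl | hne
        · simp
        · simp only [Function.comp_apply, Pi.mulSingle_eq_of_ne hne]
          exact funext fun _ => map_one _
      rw [this]
      rfl
    | zero => rw [map_zero]; exact zero_mem _
    | add x y _ _ hx hy => rw [map_add]; exact add_mem hx hy
    | smul r x _ hx => rw [map_smul]; exact Subalgebra.smul_mem Adj hx r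
  refine eq_top_iff.2 fun t _ => ?_
  induction t using PiTensorProduct.induction_on with
  | smul_tprod r a =>
    refine Submodule.smul_mem N r (hAdj _ ?_)
    rw [tprod_eq_prod_single]
    exact prod_mem fun i _ => hsingle i (a i)
  | add x y hx hy => exact add_mem (hx trivial) (hy trivial)

/-- The map to the base change of the fibre power. -/
def powLift : fibPow f' d ⟶ pullback (WidePullback.base (fun _ : Fin d => f)) gS :=
  pullback.lift (powMap f f' gS h w d) (WidePullback.base (fun _ : Fin d => f')) (powMap_base f' gS h w)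

theorem isClosedImmersion_powLift : IsClosedImmersion (powLift (d := d) f' gS h w) := by
  let P := pullback (WidePullback.base (fun _ : Fin d => f)) gS
  have data : ∀ p : P, ∃ (C : Col f d) (S₀' : S'.Opens) (hS₀' : IsAffineOpen S₀') (hle' : S₀' ≤ gS ⁻¹ᵁ C.S₀),
      pullback.fst (WidePullback.base (fun _ : Fin d => f)) gS p ∈ C.V ∧
        pullback.snd (WidePullback.base (fun _ : Fin d => f)) gS p ∈ S₀' := fun p => by
    obtain ⟨S₀, hS₀, hp, -⟩ := QuotLib.exists_affine (show WidePullback.base (fun _ : Fin d => f)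
      (pullback.fst (WidePullback.base (fun _ : Fin d => f)) gS p) ∈ (⊤ : S.Opens) from trivial)
    obtain ⟨C, rfl, hC⟩ := exists_col f _ hS₀ hp
    obtain ⟨S₀', hS₀', hp', hle'⟩ := QuotLib.exists_affine (show pullback.snd (WidePullback.base (fun _ : Fin d => f)) gS p ∈
      gS ⁻¹ᵁ C.S₀ by
        change gS _ ∈ C.S₀
        rwa [← Scheme.Hom.comp_apply, ← pullback.condition, Scheme.Hom.comp_apply])
    exact ⟨C, S₀', hS₀', hle', hC, hp'⟩
  choose C S₀' hS₀' hle' hpV hp' using data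
  let O : P → P.Opens := fun p => cmpOpen (WidePullback.base (fun _ : Fin d => f)) gS (C p).V (S₀' p)
  have hO : ∀ p, IsAffineOpen (O p) := fun p =>
    isAffineOpen_cmpOpen _ gS (C p).hS₀ (C p).isAffineOpen_V (C p).V_le_base (hS₀' p) (hle' p)
  have hpre : ∀ p, powLift (d := d) f' gS h w ⁻¹ᵁ O p = ((C p).primed f' gS h w (S₀' p) (hS₀' p) (hle' p)).V := fun p => by
    rw [Scheme.Hom.preimage_inf, ← Scheme.Hom.comp_preimage, ← Scheme.Hom.comp_preimage, powLift, pullback.lift_fst,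
      pullback.lift_snd, primed_V]
  haveI : IsAffineHom (powLift (d := d) f' gS h w) :=
    isAffineHom_of_forall_exists_isAffineOpen _ fun p =>
      ⟨O p, ⟨hpV p, hp' p⟩, hO p, by rw [hpre]; exact Col.isAffineOpen_V _⟩
  refine isClosedImmersion_of_cover _ O hO (fun p => ⟨p, hpV p, hp' p⟩) fun p => ?_
  set C' := (C p).primed f' gS h w (S₀' p) (hS₀' p) (hle' p)
  let ψ := ((powLift (d := d) f' gS h w).appLE (O p) C'.V (hpre p).ge).hom
  suffices hψ : Function.Surjective ψ by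
    intro x
    obtain ⟨y, hy⟩ := hψ ((fibPow f' d).presheaf.map (eqToHom (hpre p).symm).op x)
    refine ⟨y, ?_⟩
    apply (ConcreteCategory.bijective_of_isIso ((fibPow f' d).presheaf.map (eqToHom (hpre p).symm).op)).1
    rw [← hy]
    rfl
  intro x
  obtain ⟨t, rfl⟩ := C'.θ_surjective x
  have ht : t ∈ Submodule.span C'.R
      ((C p).Φ f' gS h w (S₀' p) (hS₀' p) (hle' p) '' Set.range (PiTensorProduct.tprod (C p).R (s := fun _ : Fin d => (C p).A))) := by
    rw [span_Φ]; trivial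
  suffices C'.θ t ∈ ψ.range from RingHom.mem_range.1 this
  induction ht using Submodule.span_induction with
  | mem y hy =>
    obtain ⟨s, -, rfl⟩ := hy
    rw [θ_Φ]
    refine ⟨((pullback.fst (WidePullback.base (fun _ : Fin d => f)) gS).appLE (C p).V (O p) inf_le_left).hom ((C p).θ s), ?_⟩
    change ((pullback.fst (WidePullback.base (fun _ : Fin d => f)) gS).appLE (C p).V (O p) inf_le_left ≫
      (powLift (d := d) f' gS h w).appLE (O p) C'.V (hpre p).ge).hom ((C p).θ s) = _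
    rw [Scheme.Hom.appLE_comp_appLE]
    simp only [powLift, pullback.lift_fst]
    rfl
  | zero => rw [map_zero]; exact zero_mem _
  | add a b _ _ ha hb => rw [map_add]; exact add_mem ha hb
  | smul r y _ hy =>
    rw [map_smul, Algebra.smul_def]
    refine mul_mem ⟨((pullback.snd (WidePullback.base (fun _ : Fin d => f)) gS).appLE (S₀' p) (O p) inf_le_right).hom r, ?_⟩ hy
    change ((pullback.snd (WidePullback.base (fun _ : Fin d => f)) gS).appLE (S₀' p) (O p) inf_le_right ≫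
      (powLift (d := d) f' gS h w).appLE (O p) C'.V (hpre p).ge).hom r = _
    rw [Scheme.Hom.appLE_comp_appLE]
    simp only [powLift, pullback.lift_snd]
    rfl

variable (hq : IsSymProd f d q g)

include hq in
theorem isIntegralHom_cmpMap : IsIntegralHom (cmpMap hq.over f' gS h w) := by
  let b := WidePullback.base (fun _ : Fin d => f)
  let Mq := pullback.map b gS g gS q (𝟙 S') (𝟙 S) ((Category.comp_id _).trans hq.over.symm)
    ((Category.comp_id gS).trans (Category.id_comp gS).symm)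
  have sq : IsPullback (pullback.fst b gS) Mq q (pullback.fst g gS) := by
    refine IsPullback.of_bot ?_ (by simp [Mq]) (IsPullback.of_hasPullback g gS)
    rw [hq.over]
    simpa [Mq] using IsPullback.of_hasPullback b gS
  haveI : IsIntegralHom q := QuotLib.isIntegralHom hq.isQuot
  haveI : IsIntegralHom Mq := MorphismProperty.of_isPullback sq inferInstance
  haveI := isClosedImmersion_powLift (d := d) f' gS h w
  have e : cmpMap hq.over f' gS h w = powLift (d := d) f' gS h w ≫ Mq := by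
    apply pullback.hom_ext <;> simp [cmpMap, powLift, Mq, b]
  rw [e]
  infer_instance

variable {r : fibPow f' d ⟶ Y'} (hr : SGA1.IsQuot (permActU f' d) r) {m : Y' ⟶ pullback g gS}
  (hm : r ≫ m = cmpMap hq.over f' gS h w)

include hr hm in
theorem cmp_isAffineHom : IsAffineHom m := by
  haveI := isIntegralHom_cmpMap f' gS h w hq
  haveI : Surjective r := ⟨QuotLib.surjective hr⟩
  haveI : UniversallyClosed (r ≫ m) := by rw [hm]; infer_instance
  haveI : UniversallyClosed m := UniversallyClosed.of_comp_surjective r m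
  haveI : UniversallyInjective m := QuotLib.universallyInjective_of_cover r m fun L _ x x' hxx => by
    rw [hm] at hxx
    obtain ⟨σ, hσ⟩ := QuotLib.geomOrbit hq.isQuot (x := x ≫ powMap f f' gS h w d) (x' := x' ≫ powMap f f' gS h w d) (by
      have := congrArg (· ≫ pullback.fst g gS) hxx
      simpa [cmpMap] using this)
    have hb : x ≫ WidePullback.base (fun _ : Fin d => f') = x' ≫ WidePullback.base (fun _ : Fin d => f') := by
      have := congrArg (· ≫ pullback.snd g gS) hxx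
      simpa [cmpMap] using this
    have e : x' = x ≫ (permActU f' d σ).hom := by
      refine WidePullback.hom_ext _ _ _ (fun i => ?_) ?_
      · rw [← cancel_mono (pullback.lift h f' w)]
        apply pullback.hom_ext
        · have := congrArg (· ≫ WidePullback.π (fun _ : Fin d => f) i) hσ
          simpa using this
        · simpa using hb.symm
      · simpa using hb.symm
    rw [e, Category.assoc, hr.inv]
  exact isAffineHom_of_isInducing m
    (Topology.IsClosedEmbedding.of_continuous_injective_isClosedMap m.continuous m.injective m.isClosedMap).isInducing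
    m.isClosedMap.isClosed_range

include hm in
theorem preimage_cmpOpen (VY : Y.Opens) (S₀' : S'.Opens) :
    powMap f f' gS h w d ⁻¹ᵁ (q ⁻¹ᵁ VY) ⊓ WidePullback.base (fun _ : Fin d => f') ⁻¹ᵁ S₀' =
      r ⁻¹ᵁ (m ⁻¹ᵁ cmpOpen g gS VY S₀') := by
  rw [← Scheme.Hom.comp_preimage (f := r) (g := m), hm, Scheme.Hom.preimage_inf, ← Scheme.Hom.comp_preimage,
    ← Scheme.Hom.comp_preimage, ← Scheme.Hom.comp_preimage, cmpMap, pullback.lift_fst, pullback.lift_snd]

include hr hm in
/-- The comparison of symmetric products induces isomorphisms of residue fields. -/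
theorem isIso_residueFieldMap (y : Y') : IsIso (m.residueFieldMap y) := by
  haveI := cmp_isAffineHom f' gS h w hq hr hm
  obtain ⟨z', rfl⟩ := QuotLib.surjective hr y
  obtain ⟨S₀, hS₀, hzS, -⟩ := QuotLib.exists_affine (show g (q (powMap f f' gS h w d z')) ∈ (⊤ : S.Opens) from trivial)
  obtain ⟨VY, hVY, hzY, hle⟩ := QuotLib.exists_affine (show q (powMap f f' gS h w d z') ∈ g ⁻¹ᵁ S₀ from hzS)
  obtain ⟨S₀', hS₀', hz', hle'⟩ := QuotLib.exists_affine (show WidePullback.base (fun _ : Fin d => f') z' ∈ gS ⁻¹ᵁ S₀ by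
    change gS _ ∈ S₀
    rwa [← Scheme.Hom.comp_apply, ← powMap_base f' gS h w, Scheme.Hom.comp_apply, ← hq.over, Scheme.Hom.comp_apply])
  obtain ⟨L, rfl, rfl⟩ := exists_loc f d q g hq (powMap f f' gS h w d z') S₀ hS₀ VY hVY hle hzY
  have hW := preimage_cmpOpen f' gS h w hq hm L.VY S₀'
  have hY0 : IsAffineOpen (m ⁻¹ᵁ cmpOpen g gS L.VY S₀') := (isAffineOpen_cmpOpen g gS hS₀ hVY hle hS₀' hle').preimage m
  have hmem : r z' ∈ m ⁻¹ᵁ cmpOpen g gS L.VY S₀' := by
    have : z' ∈ r ⁻¹ᵁ (m ⁻¹ᵁ cmpOpen g gS L.VY S₀') := hW ▸ ⟨hzY, hz'⟩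
    exact this
  let E := ((r ≫ m).residueFieldMap z').hom.fieldRange
  have hW'' : L.W' f' gS h w S₀' ≤ (r ≫ m) ⁻¹ᵁ cmpOpen g gS L.VY S₀' := hW.le
  have hR : ∀ c : Γ(S', S₀'),
      (fibPow f' d).evaluation _ z' (L.mem_W' f' gS h w S₀' hz') (L.pbR f' gS h w S₀' c) ∈ E := fun c => by
    have e : L.pbR f' gS h w S₀' c = ((r ≫ m).appLE (cmpOpen g gS L.VY S₀') (L.W' f' gS h w S₀') hW'').hom
        (((pullback.snd g gS).appLE S₀' (cmpOpen g gS L.VY S₀') inf_le_right).hom c) := by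
      rw [← CommRingCat.comp_apply, Scheme.Hom.appLE_comp_appLE]
      simp only [hm, cmpMap, pullback.lift_snd]
    rw [e, evaluation_appLE]
    exact ⟨_, rfl⟩
  have hY : ∀ v : Γ(Y, L.VY), (fibPow f' d).evaluation _ z' (L.mem_W' f' gS h w S₀' hz')
      (L.pb f' gS h w S₀' ((q.appLE L.VY L.W le_rfl).hom v)) ∈ E := fun v => by
    have e : L.pb f' gS h w S₀' ((q.appLE L.VY L.W le_rfl).hom v) =
        ((r ≫ m).appLE (cmpOpen g gS L.VY S₀') (L.W' f' gS h w S₀') hW'').hom
          (((pullback.fst g gS).appLE L.VY (cmpOpen g gS L.VY S₀') inf_le_left).hom v) := by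
      rw [← CommRingCat.comp_apply, ← CommRingCat.comp_apply, Scheme.Hom.appLE_comp_appLE,
        Scheme.Hom.appLE_comp_appLE]
      simp only [hm, cmpMap, pullback.lift_fst]
    rw [e, evaluation_appLE]
    exact ⟨_, rfl⟩
  have hval : ∀ a : Γ(Y', m ⁻¹ᵁ cmpOpen g gS L.VY S₀'),
      r.residueFieldMap z' (Y'.evaluation _ (r z') hmem a) ∈ E := fun a => by
    rw [← evaluation_appLE r hW.le z' (L.mem_W' f' gS h w S₀' hz') a]
    refine L.eval_inv_mem f' gS h w S₀' hS₀' hle' hz' hq.isQuot E hR hY _ fun σ => ?_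
    change (r.appLE _ _ hW.le ≫ (permHom f' d σ⁻¹).appLE _ _ (L.W'_stable f' gS h w S₀' _)).hom a = _
    rw [Scheme.Hom.appLE_comp_appLE]
    simp only [show permHom f' d σ⁻¹ ≫ r = r from hr.inv (ULift.up σ⁻¹)]
  haveI : Function.Surjective (m.residueFieldMap (r z')) := fun c => by
    obtain ⟨a, s, hs, hcs⟩ := exists_eval_div hY0 (r z') hmem c
    have hc : r.residueFieldMap z' c ∈ E := by
      have h0 : r.residueFieldMap z' (Y'.evaluation _ (r z') hmem s) ≠ 0 := (map_ne_zero _).2 hs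
      rw [show r.residueFieldMap z' c = r.residueFieldMap z' (Y'.evaluation _ (r z') hmem a) *
        (r.residueFieldMap z' (Y'.evaluation _ (r z') hmem s))⁻¹ by
          rw [← hcs, map_mul, mul_inv_cancel_right₀ h0]]
      exact mul_mem (hval a) (inv_mem (hval s))
    obtain ⟨x, hx⟩ := hc
    rw [Scheme.residueFieldMap_comp] at hx
    exact ⟨x, (r.residueFieldMap z').hom.injective hx⟩
  rw [ConcreteCategory.isIso_iff_bijective]
  exact ⟨(m.residueFieldMap (r z')).hom.injective, this⟩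

include hr hm in
/-- Near any point, a function of the source times a function of the quotient not vanishing there comes from the base
change. -/
theorem exists_mul_mem_cmp
    (HTS : ∀ (C : Col f d) (S₀' : S'.Opens) (hS₀' : IsAffineOpen S₀') (hle' : S₀' ≤ gS ⁻¹ᵁ C.S₀),
      ∀ t ∈ SymTen.TS (C.primed f' gS h w S₀' hS₀' hle').R (C.primed f' gS h w S₀' hS₀' hle').A d,
        t ∈ Submodule.span (C.primed f' gS h w S₀' hS₀' hle').R
          (C.Φ f' gS h w S₀' hS₀' hle' '' (SymTen.TS C.R C.A d : Set C.T)))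
    {S₀ : S.Opens} (hS₀ : IsAffineOpen S₀) {VY : Y.Opens} (hVY : IsAffineOpen VY) (hle : VY ≤ g ⁻¹ᵁ S₀)
    {S₀' : S'.Opens} (hS₀' : IsAffineOpen S₀') (hle' : S₀' ≤ gS ⁻¹ᵁ S₀)
    (u₀ : Γ(Y', m ⁻¹ᵁ cmpOpen g gS VY S₀')) (z' : fibPow f' d)
    (hz : z' ∈ powMap f f' gS h w d ⁻¹ᵁ (q ⁻¹ᵁ VY) ⊓ WidePullback.base (fun _ : Fin d => f') ⁻¹ᵁ S₀') :
    ∃ v : Γ(Y, VY),
      (m.app (cmpOpen g gS VY S₀')).hom (((pullback.fst g gS).appLE VY (cmpOpen g gS VY S₀') inf_le_left).hom v) * u₀ ∈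
        (m.app (cmpOpen g gS VY S₀')).hom.range ∧
      (fibPow f' d).evaluation _ z' hz (((cmpMap hq.over f' gS h w).appLE (cmpOpen g gS VY S₀') _
        ((preimage_cmpOpen f' gS h w hq hm VY S₀').trans (by rw [← hm]; rfl)).le).hom
          (((pullback.fst g gS).appLE VY (cmpOpen g gS VY S₀') inf_le_left).hom v)) ≠ 0 := by
  haveI := isIntegralHom_cmpMap f' gS h w hq
  obtain ⟨L, rfl, rfl⟩ := exists_loc f d q g hq (powMap f f' gS h w d z') S₀ hS₀ VY hVY hle hz.1
  have hW := preimage_cmpOpen f' gS h w hq hm L.VY S₀'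
  have hWM : L.W' f' gS h w S₀' = cmpMap hq.over f' gS h w ⁻¹ᵁ (cmpOpen g gS L.VY S₀') := hW.trans (by rw [← hm]; rfl)
  have hW0 : IsAffineOpen (L.W' f' gS h w S₀') := by
    rw [hWM]; exact (isAffineOpen_cmpOpen g gS hS₀ hVY hle hS₀' hle').preimage _
  set M0 := ((cmpMap hq.over f' gS h w).appLE (cmpOpen g gS L.VY S₀') (L.W' f' gS h w S₀') hWM.le).hom with hM0def
  set r0 := (r.appLE (m ⁻¹ᵁ (cmpOpen g gS L.VY S₀')) (L.W' f' gS h w S₀') hW.le).hom with hr0def
  have hr0 : Function.Injective r0 := quot_injective_appLE hr hW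
  have hM0 : ∀ u, M0 u = r0 ((m.app (cmpOpen g gS L.VY S₀')).hom u) := fun u => by
    change _ = (m.app (cmpOpen g gS L.VY S₀') ≫ r.appLE (m ⁻¹ᵁ (cmpOpen g gS L.VY S₀')) _ hW.le).hom u
    rw [hM0def, Scheme.Hom.app_eq_appLE, Scheme.Hom.appLE_comp_appLE]
    simp only [hm]
  have hpbY : ∀ v : Γ(Y, L.VY), L.pb f' gS h w S₀' ((q.appLE L.VY L.W le_rfl).hom v) =
      M0 (((pullback.fst g gS).appLE L.VY (cmpOpen g gS L.VY S₀') inf_le_left).hom v) := fun v => by
    rw [hM0def, ← CommRingCat.comp_apply, ← CommRingCat.comp_apply, Scheme.Hom.appLE_comp_appLE,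
      Scheme.Hom.appLE_comp_appLE]
    simp only [cmpMap, pullback.lift_fst]
  have hpbR : ∀ c : Γ(S', S₀'), L.pbR f' gS h w S₀' c =
      M0 (((pullback.snd g gS).appLE S₀' (cmpOpen g gS L.VY S₀') inf_le_right).hom c) := fun c => by
    rw [hM0def, ← CommRingCat.comp_apply, Scheme.Hom.appLE_comp_appLE]
    simp only [cmpMap, pullback.lift_snd]
  obtain ⟨v, ⟨c, hc⟩, hv0⟩ := L.exists_mul_mem f' gS h w S₀' hS₀' hle' hz.2 hq.isQuot hW0 M0.range
    (fun c => ⟨_, (hpbR c).symm⟩) (fun v => ⟨_, (hpbY v).symm⟩) (HTS L.C S₀' hS₀' hle') (r0 u₀) fun σ => by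
      change (r.appLE _ _ hW.le ≫ (permHom f' d σ⁻¹).appLE _ _ (L.W'_stable f' gS h w S₀' _)).hom u₀ = _
      rw [Scheme.Hom.appLE_comp_appLE]
      simp only [show permHom f' d σ⁻¹ ≫ r = r from hr.inv (ULift.up σ⁻¹)]
      rfl
  rw [hpbY, hM0, hM0, ← map_mul] at hc
  refine ⟨v, ⟨c, hr0 hc⟩, ?_⟩
  rw [← hpbY]
  exact hv0

include hr hm in
theorem app_surjective
    (HTS : ∀ (C : Col f d) (S₀' : S'.Opens) (hS₀' : IsAffineOpen S₀') (hle' : S₀' ≤ gS ⁻¹ᵁ C.S₀),
      ∀ t ∈ SymTen.TS (C.primed f' gS h w S₀' hS₀' hle').R (C.primed f' gS h w S₀' hS₀' hle').A d,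
        t ∈ Submodule.span (C.primed f' gS h w S₀' hS₀' hle').R
          (C.Φ f' gS h w S₀' hS₀' hle' '' (SymTen.TS C.R C.A d : Set C.T)))
    {S₀ : S.Opens} (hS₀ : IsAffineOpen S₀) {VY : Y.Opens} (hVY : IsAffineOpen VY) (hle : VY ≤ g ⁻¹ᵁ S₀)
    {S₀' : S'.Opens} (hS₀' : IsAffineOpen S₀') (hle' : S₀' ≤ gS ⁻¹ᵁ S₀) :
    Function.Surjective (m.app (cmpOpen g gS VY S₀')) := by
  haveI := isIntegralHom_cmpMap f' gS h w hq
  set O := cmpOpen g gS VY S₀'
  intro u₀
  have hOa : IsAffineOpen O := isAffineOpen_cmpOpen g gS hS₀ hVY hle hS₀' hle'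
  let I : Ideal Γ(pullback g gS, O) :=
    { carrier := {u | (m.app O).hom u * u₀ ∈ (m.app O).hom.range}
      add_mem' := fun {a b} ha hb => by
        change (m.app O).hom (a + b) * u₀ ∈ (m.app O).hom.range
        rw [map_add, add_mul]; exact add_mem ha hb
      zero_mem' := by
        change (m.app O).hom 0 * u₀ ∈ (m.app O).hom.range
        rw [map_zero, zero_mul]; exact zero_mem _
      smul_mem' := fun c {a} ha => by
        change (m.app O).hom (c * a) * u₀ ∈ (m.app O).hom.range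
        rw [map_mul, mul_assoc]; exact mul_mem ⟨c, rfl⟩ ha }
  by_cases htop : I = ⊤
  · have h1 : (1 : Γ(pullback g gS, O)) ∈ I := htop ▸ trivial
    change (m.app O).hom 1 * u₀ ∈ (m.app O).hom.range at h1
    rw [map_one, one_mul] at h1
    exact h1
  exfalso
  obtain ⟨P, hPmax, hIP⟩ := Ideal.exists_le_maximal I htop
  have hW := preimage_cmpOpen f' gS h w hq hm VY S₀'
  have hWM : powMap f f' gS h w d ⁻¹ᵁ (q ⁻¹ᵁ VY) ⊓ WidePullback.base (fun _ : Fin d => f') ⁻¹ᵁ S₀' =
      cmpMap hq.over f' gS h w ⁻¹ᵁ O := hW.trans (by rw [← hm]; rfl)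
  have hW0 : IsAffineOpen (powMap f f' gS h w d ⁻¹ᵁ (q ⁻¹ᵁ VY) ⊓ WidePullback.base (fun _ : Fin d => f') ⁻¹ᵁ S₀') := by
    rw [hWM]; exact hOa.preimage _
  set M0 := ((cmpMap hq.over f' gS h w).appLE O _ hWM.le).hom with hM0def
  set r0 := (r.appLE (m ⁻¹ᵁ O) _ hW.le).hom with hr0def
  have hr0 : Function.Injective r0 := quot_injective_appLE hr hW
  have hM0 : ∀ u, M0 u = r0 ((m.app O).hom u) := fun u => by
    change _ = (m.app O ≫ r.appLE (m ⁻¹ᵁ O) _ hW.le).hom u
    rw [hM0def, Scheme.Hom.app_eq_appLE, Scheme.Hom.appLE_comp_appLE]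
    simp only [hm]
  have hker : ∀ u, M0 u = 0 → u ∈ P := fun u hu => hIP <| by
    change (m.app O).hom u * u₀ ∈ (m.app O).hom.range
    rw [hM0] at hu
    rw [hr0 (hu.trans (map_zero r0).symm), zero_mul]
    exact zero_mem _
  algebraize [M0]
  haveI : Algebra.IsIntegral Γ(pullback g gS, O) _ := ⟨isIntegral_appLE_of_eq (cmpMap hq.over f' gS h w) hOa hWM⟩
  obtain ⟨Q, -, hQ, hQP⟩ := Ideal.exists_ideal_over_prime_of_isIntegral P
    (⊥ : Ideal Γ(fibPow f' d, powMap f f' gS h w d ⁻¹ᵁ (q ⁻¹ᵁ VY) ⊓ WidePullback.base (fun _ : Fin d => f') ⁻¹ᵁ S₀'))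
    fun u hu => hker u (Ideal.mem_bot.1 (Ideal.mem_comap.1 hu))
  let z' : fibPow f' d := hW0.fromSpec ⟨Q, hQ⟩
  have hz : z' ∈ powMap f f' gS h w d ⁻¹ᵁ (q ⁻¹ᵁ VY) ⊓ WidePullback.base (fun _ : Fin d => f') ⁻¹ᵁ S₀' := by
    have : z' ∈ Set.range hW0.fromSpec := ⟨_, rfl⟩
    rwa [hW0.range_fromSpec] at this
  obtain ⟨v, hvI, hv0⟩ := exists_mul_mem_cmp f' gS h w hq hr hm HTS hS₀ hVY hle hS₀' hle' u₀ z' hz
  rw [Scheme.evaluation_ne_zero_iff_mem_basicOpen] at hv0
  have hmem : (⟨Q, hQ⟩ : Spec Γ(fibPow f' d, powMap f f' gS h w d ⁻¹ᵁ (q ⁻¹ᵁ VY) ⊓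
        WidePullback.base (fun _ : Fin d => f') ⁻¹ᵁ S₀')) ∈
      hW0.fromSpec ⁻¹ᵁ (fibPow f' d).basicOpen (M0 (((pullback.fst g gS).appLE VY O inf_le_left).hom v)) := hv0
  rw [hW0.fromSpec_preimage_basicOpen] at hmem
  refine hmem ?_
  have : ((pullback.fst g gS).appLE VY O inf_le_left).hom v ∈ Q.comap M0 := by
    rw [show Q.comap M0 = P from hQP]; exact hIP hvI
  exact this

include hr hm in
/-- The comparison is a closed immersion if symmetric tensors are spanned by symmetric tensors. -/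
theorem isClosedImmersion_cmp
    (HTS : ∀ (C : Col f d) (S₀' : S'.Opens) (hS₀' : IsAffineOpen S₀') (hle' : S₀' ≤ gS ⁻¹ᵁ C.S₀),
      ∀ t ∈ SymTen.TS (C.primed f' gS h w S₀' hS₀' hle').R (C.primed f' gS h w S₀' hS₀' hle').A d,
        t ∈ Submodule.span (C.primed f' gS h w S₀' hS₀' hle').R
          (C.Φ f' gS h w S₀' hS₀' hle' '' (SymTen.TS C.R C.A d : Set C.T))) :
    IsClosedImmersion m := by
  haveI := cmp_isAffineHom f' gS h w hq hr hm
  have data : ∀ p : (pullback g gS : Scheme.{u}), ∃ (S₀ : S.Opens) (VY : Y.Opens) (S₀' : S'.Opens),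
      IsAffineOpen S₀ ∧ IsAffineOpen VY ∧ VY ≤ g ⁻¹ᵁ S₀ ∧ IsAffineOpen S₀' ∧ S₀' ≤ gS ⁻¹ᵁ S₀ ∧
        p ∈ cmpOpen g gS VY S₀' := fun p => by
    obtain ⟨S₀, hS₀, hpS, -⟩ := QuotLib.exists_affine (show g (pullback.fst g gS p) ∈ (⊤ : S.Opens) from trivial)
    obtain ⟨VY, hVY, hpY, hle⟩ := QuotLib.exists_affine (show pullback.fst g gS p ∈ g ⁻¹ᵁ S₀ from hpS)
    obtain ⟨S₀', hS₀', hp', hle'⟩ := QuotLib.exists_affine (show pullback.snd g gS p ∈ gS ⁻¹ᵁ S₀ by
      change gS _ ∈ S₀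
      rwa [← Scheme.Hom.comp_apply, ← pullback.condition, Scheme.Hom.comp_apply])
    exact ⟨S₀, VY, S₀', hS₀, hVY, hle, hS₀', hle', hpY, hp'⟩
  choose S₀ VY S₀' hS₀ hVY hle hS₀' hle' hp using data
  exact isClosedImmersion_of_cover m (fun p => cmpOpen g gS (VY p) (S₀' p))
    (fun p => isAffineOpen_cmpOpen g gS (hS₀ p) (hVY p) (hle p) (hS₀' p) (hle' p)) (fun p => ⟨p, hp p⟩)
    fun p => app_surjective f' gS h w hq hr hm HTS (hS₀ p) (hVY p) (hle p) (hS₀' p) (hle' p)

end SymProdCmp
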