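import Groth.Agent.SymProdCmpLib.Primed

/-!
# Spanning of symmetric tensors of a chart by symmetric tensors
-/

set_option autoImplicit false
set_option backward.isDefEq.respectTransparency false
set_option backward.isDefEq.respectTransparency.types false
noncomputable section

universe u

open CategoryTheory CategoryTheory.Limits AlgebraicGeometry TopologicalSpace SymProd
open scoped TensorProduct

namespace SymProdCmp

variable {X S X' S' : Scheme.{u}} {f : X ⟶ S} {d : ℕ}

theorem Col.flat_A [Flat f] (C : Col f d) : Module.Flat C.R C.A := by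
  classical
  haveI : ∀ j, Module.Flat C.R Γ(X, C.U j) := fun j => f.flat_appLE C.hS₀ (C.hU j) (C.hle j)
  haveI := Fintype.ofFinite C.J
  exact Module.Flat.of_linearEquiv (DirectSum.linearEquivFunOnFintype C.R C.J (fun j => Γ(X, C.U j))).symm

variable (C : Col f d) (f' : X' ⟶ S') (gS : S' ⟶ S) (h : X' ⟶ X) (w : h ≫ f = f' ≫ gS)
  [IsClosedImmersion (pullback.lift h f' w)] (S₀' : S'.Opens) (hS₀' : IsAffineOpen S₀') (hle' : S₀' ≤ gS ⁻¹ᵁ C.S₀)

theorem mem_span_TS_of_flat [Flat f']
    (t : (C.primed f' gS h w S₀' hS₀' hle').T)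
    (ht : t ∈ SymTen.TS (C.primed f' gS h w S₀' hS₀' hle').R (C.primed f' gS h w S₀' hS₀' hle').A d) :
    t ∈ Submodule.span (C.primed f' gS h w S₀' hS₀' hle').R
      (C.Φ f' gS h w S₀' hS₀' hle' '' (SymTen.TS C.R C.A d : Set C.T)) := by
  haveI := (C.primed f' gS h w S₀' hS₀' hle').flat_A
  exact mem_span_image_TS (R := C.R) (C.φ f' gS h w S₀' hS₀' hle') (span_φ C f' gS h w S₀' hS₀' hle')
    (C.Φ f' gS h w S₀' hS₀' hle').toAddMonoidHom (Φ_tprod C f' gS h w S₀' hS₀' hle') t ht

theorem mem_span_TS_of_isUnit (hN : IsUnit (d.factorial : Γ(S', ⊤)))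
    (hspan : Submodule.span (C.primed f' gS h w S₀' hS₀' hle').R
      (C.Φ f' gS h w S₀' hS₀' hle' '' Set.range (PiTensorProduct.tprod C.R (s := fun _ : Fin d => C.A))) = ⊤)
    (t : (C.primed f' gS h w S₀' hS₀' hle').T)
    (ht : t ∈ SymTen.TS (C.primed f' gS h w S₀' hS₀' hle').R (C.primed f' gS h w S₀' hS₀' hle').A d) :
    t ∈ Submodule.span (C.primed f' gS h w S₀' hS₀' hle').R
      (C.Φ f' gS h w S₀' hS₀' hle' '' (SymTen.TS C.R C.A d : Set C.T)) := by
  classical
  let C' := C.primed f' gS h w S₀' hS₀' hle'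
  let N := Submodule.span C'.R (C.Φ f' gS h w S₀' hS₀' hle' '' (SymTen.TS C.R C.A d : Set C.T))
  let Av : C'.T →ₗ[C'.R] C'.T := ∑ σ : Equiv.Perm (Fin d), (SymTen.perm C'.R C'.A d σ).toLinearMap
  have hAv : ∀ x, Av x = ∑ σ : Equiv.Perm (Fin d), SymTen.perm C'.R C'.A d σ x := fun x =>
    LinearMap.sum_apply _ _ _
  have hmem : ∀ x : C'.T, Av x ∈ N := fun x => by
    have hx : x ∈ Submodule.span C'.R
        (C.Φ f' gS h w S₀' hS₀' hle' '' Set.range (PiTensorProduct.tprod C.R (s := fun _ : Fin d => C.A))) := by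
      rw [hspan]; trivial
    induction hx using Submodule.span_induction with
    | mem y hy =>
      obtain ⟨_, ⟨a, rfl⟩, rfl⟩ := hy
      refine Submodule.subset_span ⟨∑ σ : Equiv.Perm (Fin d), SymTen.perm C.R C.A d σ (PiTensorProduct.tprod C.R a),
        fun τ => ?_, ?_⟩
      · rw [map_sum]
        refine Fintype.sum_equiv (Equiv.mulLeft τ) _ _ fun σ => ?_
        rw [← SymTen.perm_apply, SymTen.perm_tprod, SymTen.perm_tprod, Equiv.coe_mulLeft, SymTen.perm_tprod]
        rfl
      · rw [map_sum, hAv]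
        refine Finset.sum_congr rfl fun σ _ => ?_
        rw [SymTen.perm_tprod, Φ_tprod, Φ_tprod, SymTen.perm_tprod]
        rfl
    | zero => rw [map_zero]; exact N.zero_mem
    | add y z _ _ hy hz => rw [map_add]; exact N.add_mem hy hz
    | smul r y _ hy => rw [map_smul]; exact N.smul_mem r hy
  have h1 : Av t = (d.factorial : C'.R) • t := by
    rw [hAv, Finset.sum_congr rfl fun σ _ => (SymTen.perm_apply (A := C'.R) (B := C'.A) (d := d) σ t).trans (ht σ),
      Finset.sum_const, Finset.card_univ, Fintype.card_perm, Fintype.card_fin, Nat.cast_smul_eq_nsmul]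
  have hu : IsUnit (d.factorial : C'.R) := by
    have := hN.map (S'.presheaf.map (homOfLE (le_top : S₀' ≤ ⊤)).op).hom
    rwa [map_natCast] at this
  obtain ⟨c, hc⟩ := hu.exists_left_inv
  rw [show t = c • Av t by rw [h1, smul_smul, hc, one_smul]]
  exact N.smul_mem c (hmem t)

end SymProdCmp
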