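import Groth.Agent.SymProdCmpLib.Compare
import Groth.Agent.SymProdCmpLib.Hyp
import Mathlib.RingTheory.Flat.Localization
import Mathlib.RingTheory.Localization.BaseChange

/-!
# Symmetric products of flat schemes are flat
-/

set_option autoImplicit false
set_option backward.isDefEq.respectTransparency false
set_option backward.isDefEq.respectTransparency.types false
noncomputable section

universe u

open CategoryTheory CategoryTheory.Limits AlgebraicGeometry TopologicalSpace SymProd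
open scoped TensorProduct

namespace SymProdCmp

variable {X S Y : Scheme.{u}}

/-- Fibre powers of flat morphisms are flat. -/
theorem flat_base (f : X ⟶ S) [Flat f] : ∀ d : ℕ, Flat (WidePullback.base (fun _ : Fin d => f))
  | 0 => by
    haveI : IsIso (WidePullback.base (fun _ : Fin 0 => f)) :=
      ⟨WidePullback.lift (𝟙 S) (fun i => i.elim0) (fun i => i.elim0),
        WidePullback.hom_ext _ _ _ (fun i => i.elim0) (by simp), by simp⟩
    infer_instance
  | d + 1 => by
    haveI := flat_base f d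
    let P := pullback (WidePullback.base (fun _ : Fin d => f)) f
    let a : fibPow f (d + 1) ⟶ P := pullback.lift
      (WidePullback.lift (WidePullback.base _) (fun i => WidePullback.π _ i.castSucc) fun i => by simp)
      (WidePullback.π _ (Fin.last d)) (by simp)
    let bk : P ⟶ fibPow f (d + 1) := WidePullback.lift (pullback.snd _ _ ≫ f)
      (Fin.lastCases (pullback.snd _ _) fun i => pullback.fst _ _ ≫ WidePullback.π _ i)
      (Fin.lastCases (by simp) fun i => by simp [pullback.condition])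
    haveI : IsIso a := ⟨bk, by
      constructor
      · refine WidePullback.hom_ext _ _ _ (Fin.lastCases ?_ fun i => ?_) ?_
        · simp [a, bk]
        · simp [a, bk]
        · simp [a, bk]
      · apply pullback.hom_ext
        · apply WidePullback.hom_ext
          · intro i; simp [a, bk]
          · simp [a, bk, pullback.condition]
        · simp [a, bk]⟩
    rw [show WidePullback.base (fun _ : Fin (d + 1) => f) = a ≫ pullback.snd _ _ ≫ f by simp [a]]
    infer_instance

section Algebra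

theorem exists_pow_smul_eq_zero {R A₁ A₂ M : Type u} [CommRing R] [CommRing A₁] [CommRing A₂] [Algebra R A₁]
    [Algebra R A₂] [Algebra A₁ A₂] [IsScalarTower R A₁ A₂] [AddCommGroup M] [Module R M] (t : A₁)
    [IsLocalization.Away t A₂] (x : A₁ ⊗[R] M)
    (hx : (IsScalarTower.toAlgHom R A₁ A₂).toLinearMap.rTensor M x = 0) : ∃ n : ℕ, t ^ n • x = 0 := by
  have h : ∀ x : A₁ ⊗[R] M, TensorProduct.AlgebraTensorModule.cancelBaseChange R A₁ A₂ A₂ M
      (TensorProduct.mk A₁ A₂ (A₁ ⊗[R] M) 1 x) = (IsScalarTower.toAlgHom R A₁ A₂).toLinearMap.rTensor M x := fun x => by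
    induction x using TensorProduct.induction_on with
    | zero => simp
    | add a b ha hb => simp only [map_add, ha, hb]
    | tmul a m =>
      simp [TensorProduct.AlgebraTensorModule.cancelBaseChange_tmul, Algebra.algebraMap_eq_smul_one,
        TensorProduct.smul_tmul']
  have h1 : TensorProduct.mk A₁ A₂ (A₁ ⊗[R] M) 1 x = 0 := by
    apply (TensorProduct.AlgebraTensorModule.cancelBaseChange R A₁ A₂ A₂ M).injective
    rw [h, hx, map_zero]
  obtain ⟨⟨_, n, rfl⟩, hn⟩ :=
    (IsLocalizedModule.eq_zero_iff (Submonoid.powers t) (TensorProduct.mk A₁ A₂ (A₁ ⊗[R] M) 1)).1 h1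
  exact ⟨n, hn⟩

end Algebra

variable {f : X ⟶ S} {d : ℕ} {q : fibPow f d ⟶ Y} {g : Y ⟶ S}

/-- The algebra of sections over an open above the base open of a chart. -/
abbrev Col.secAlg (C : Col f d) {U : (fibPow f d).Opens}
    (hU : U ≤ WidePullback.base (fun _ : Fin d => f) ⁻¹ᵁ C.S₀) : Algebra C.R Γ(fibPow f d, U) :=
  ((WidePullback.base (fun _ : Fin d => f)).appLE C.S₀ U hU).hom.toAlgebra

/-- The functions on a stable open fixed by the permutations preserving the colours. -/
def Col.fixAlg (C : Col f d) {U : (fibPow f d).Opens}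
    (hU : U ≤ WidePullback.base (fun _ : Fin d => f) ⁻¹ᵁ C.S₀) (hs : ∀ σ : C.H, U ≤ permHom f d σ.1 ⁻¹ᵁ U) :
    letI := C.secAlg hU
    Subalgebra C.R Γ(fibPow f d, U) :=
  letI := C.secAlg hU
  { carrier := {x | ∀ σ : C.H, pullSelf (permHom f d σ.1) (hs σ) x = x}
    mul_mem' := fun {a b} ha hb σ => by rw [map_mul, ha σ, hb σ]
    one_mem' := fun σ => map_one _
    add_mem' := fun {a b} ha hb σ => by rw [map_add, ha σ, hb σ]
    zero_mem' := fun σ => map_zero _
    algebraMap_mem' := fun r σ => by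
      change ((WidePullback.base (fun _ : Fin d => f)).appLE C.S₀ U hU ≫ (permHom f d σ.1).appLE U U (hs σ)).hom r = _
      rw [Scheme.Hom.appLE_comp_appLE]
      simp only [permHom_base]
      rfl }

theorem isLocalization_fixed {Z : Scheme.{u}} {R : Type u} [CommRing R] {ι : Type*} [Finite ι] (gs : ι → (Z ⟶ Z))
    {U D : Z.Opens} [Algebra R Γ(Z, U)] [Algebra R Γ(Z, D)] (hU : IsAffineOpen U) (hgU : ∀ i, U ≤ gs i ⁻¹ᵁ U)
    (hgD : ∀ i, D ≤ gs i ⁻¹ᵁ D) {t : Γ(Z, U)} (hD : D = Z.basicOpen t) (hDU : D ≤ U)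
    (F : Subalgebra R Γ(Z, U)) (F' : Subalgebra R Γ(Z, D))
    (hF : ∀ x, x ∈ F ↔ ∀ i, pullSelf (gs i) (hgU i) x = x) (hF' : ∀ x, x ∈ F' ↔ ∀ i, pullSelf (gs i) (hgD i) x = x)
    (ht : t ∈ F) [Algebra F F'] (hρ : ∀ x : F, (algebraMap F F' x).1 = resTo hDU x.1) :
    IsLocalization.Away (⟨t, ht⟩ : F) F' := by
  subst hD
  haveI := hU.isLocalization_basicOpen t
  refine IsLocalization.Away.mk _ ?_ ?_ ?_
  · obtain ⟨v, hv⟩ := IsLocalization.Away.algebraMap_isUnit (S := Γ(Z, Z.basicOpen t)) t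
    have hv' : (v : Γ(Z, Z.basicOpen t)) = resTo hDU t := hv
    have hinv : (↑v⁻¹ : Γ(Z, Z.basicOpen t)) ∈ F' := (hF' _).2 fun i => by
      have h1 : pullSelf (gs i) (hgD i) (v : Γ(Z, Z.basicOpen t)) = v := by
        rw [hv', pullSelf_res _ (hgU i) (hgD i), (hF t).1 ht i]
      calc pullSelf (gs i) (hgD i) (↑v⁻¹ : Γ(Z, Z.basicOpen t))
          = pullSelf (gs i) (hgD i) (↑v⁻¹ : Γ(Z, Z.basicOpen t)) * ((v : Γ(Z, Z.basicOpen t)) * ↑v⁻¹) := by
            rw [Units.mul_inv, mul_one]
        _ = pullSelf (gs i) (hgD i) ((↑v⁻¹ : Γ(Z, Z.basicOpen t)) * v) * ↑v⁻¹ := by rw [map_mul, h1, mul_assoc]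
        _ = ↑v⁻¹ := by rw [Units.inv_mul, map_one, one_mul]
    refine IsUnit.of_mul_eq_one ⟨_, hinv⟩ (Subtype.ext ?_)
    rw [MulMemClass.coe_mul, hρ]
    change resTo hDU t * _ = 1
    rw [← hv', Units.mul_inv]
  · intro x
    obtain ⟨k, y, hy, hxy⟩ := exists_fixed_lift gs hU hgU hgD rfl hDU (fun i => (hF t).1 ht i)
      (x := x.1) (fun i => (hF' x.1).1 x.2 i)
    refine ⟨k, ⟨y, (hF y).2 hy⟩, Subtype.ext ?_⟩
    rw [MulMemClass.coe_mul, SubmonoidClass.coe_pow, hρ, hρ]
    exact hxy.symm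
  · intro a b h
    have h' := congrArg Subtype.val h
    rw [hρ, hρ] at h'
    obtain ⟨⟨_, n, rfl⟩, hn⟩ := (IsLocalization.eq_iff_exists (Submonoid.powers t) Γ(Z, Z.basicOpen t)).1 h'
    exact ⟨n, Subtype.ext hn⟩

/-- The symmetric product of a flat scheme is flat. -/
theorem flat_symProd [Flat f] (hq : IsSymProd f d q g) : Flat g := by
  refine ⟨fun {U} hU {V} hV hle => ?_⟩
  letI : Algebra Γ(S, U) Γ(Y, V) := (g.appLE U V hle).hom.toAlgebra
  change Module.Flat Γ(S, U) Γ(Y, V)
  rw [Module.Flat.iff_lTensor_preserves_injective_linearMap]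
  intro N N' _ _ _ _ l hl
  rw [injective_iff_map_eq_zero]
  intro k hk
  let J : Ideal Γ(Y, V) := LinearMap.ker (LinearMap.toSpanSingleton Γ(Y, V) (Γ(Y, V) ⊗[Γ(S, U)] N) k)
  suffices hJ : J = ⊤ by
    have h1 : (1 : Γ(Y, V)) ∈ J := hJ ▸ trivial
    simpa [J] using h1
  by_contra hJ
  obtain ⟨P, hP, hJP⟩ := Ideal.exists_le_maximal J hJ
  let y : Y := hV.fromSpec ⟨P, hP.isPrime⟩
  have hy : y ∈ V := by
    have : y ∈ Set.range hV.fromSpec := ⟨_, rfl⟩
    rwa [hV.range_fromSpec] at this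
  obtain ⟨z, hz⟩ := QuotLib.surjective hq.isQuot y
  obtain ⟨L, rfl, rfl⟩ := exists_loc f d q g hq z U hU V hV hle (hz ▸ hy)
  have hbW : L.W ≤ WidePullback.base (fun _ : Fin d => f) ⁻¹ᵁ L.C.S₀ := fun x hx => by
    change WidePullback.base (fun _ : Fin d => f) x ∈ L.C.S₀
    rw [← hq.over, Scheme.Hom.comp_apply]
    exact hle hx
  have hbD : L.D ≤ WidePullback.base (fun _ : Fin d => f) ⁻¹ᵁ L.C.S₀ := L.D_le_W.trans hbW
  letI := L.C.secAlg hbW
  letI := L.C.secAlg hbD
  let FW := L.C.fixAlg hbW fun σ => L.W_stable σ.1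
  let FD := L.C.fixAlg hbD fun σ => L.D_stable σ.2
  let resA : ∀ {U' : (fibPow f d).Opens} (h : L.D ≤ U') (hU' : U' ≤ WidePullback.base (fun _ : Fin d => f) ⁻¹ᵁ L.C.S₀)
      (hs : ∀ σ : L.C.H, U' ≤ permHom f d σ.1 ⁻¹ᵁ U'),
      letI := L.C.secAlg hU'
      L.C.fixAlg hU' hs →ₐ[L.C.R] FD := fun {U'} h hU' hs =>
    letI := L.C.secAlg hU'
    { toFun := fun x => ⟨resTo h x.1, fun σ => by rw [pullSelf_res _ (hs σ)]; exact congrArg _ (x.2 σ)⟩
      map_one' := Subtype.ext (map_one _)
      map_mul' := fun a b => Subtype.ext (map_mul _ _ _)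
      map_zero' := Subtype.ext (map_zero _)
      map_add' := fun a b => Subtype.ext (map_add _ _ _)
      commutes' := fun r => Subtype.ext (by
        change ((WidePullback.base (fun _ : Fin d => f)).appLE L.C.S₀ U' hU' ≫ (fibPow f d).presheaf.map _).hom r = _
        rw [Scheme.Hom.appLE_map]
        rfl) }
  let ρW : FW →ₐ[L.C.R] FD := resA L.D_le_W hbW _
  let ρV : L.C.inv →ₐ[L.C.R] FD :=
    { toFun := fun x => ⟨resTo L.D_le_V x.1, fun σ => by
        rw [pullSelf_res _ (L.C.V_le_preimage σ.2)]; exact congrArg _ (x.2 σ)⟩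
      map_one' := Subtype.ext (map_one _)
      map_mul' := fun a b => Subtype.ext (map_mul _ _ _)
      map_zero' := Subtype.ext (map_zero _)
      map_add' := fun a b => Subtype.ext (map_add _ _ _)
      commutes' := fun r => Subtype.ext (by
        change ((WidePullback.base (fun _ : Fin d => f)).appLE L.C.S₀ L.C.V L.C.V_le_base ≫ (fibPow f d).presheaf.map _).hom r = _
        rw [Scheme.Hom.appLE_map]
        rfl) }
  haveI hFDflat : Module.Flat L.C.R FD := by
    letI : Algebra L.C.inv FD := ρV.toRingHom.toAlgebra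
    haveI : IsScalarTower L.C.R L.C.inv FD := IsScalarTower.of_algebraMap_eq fun r => (ρV.commutes r).symm
    haveI : IsLocalization.Away (⟨L.t₀, L.ht₀⟩ : L.C.inv) FD :=
      isLocalization_fixed (fun σ : L.C.H => permHom f d σ.1) L.C.isAffineOpen_V (fun σ => L.C.V_le_preimage σ.2)
        (fun σ => L.D_stable σ.2) L.D_eq' L.D_le_V L.C.inv FD (fun x => Iff.rfl) (fun x => Iff.rfl) L.ht₀ fun x => rfl
    haveI := L.C.flat_inv L.C.flat_A
    haveI : Module.Flat L.C.inv FD := IsLocalization.flat FD (Submonoid.powers (⟨L.t₀, L.ht₀⟩ : L.C.inv))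
    exact Module.Flat.trans L.C.R L.C.inv FD
  have heFW : L.e ∈ FW := fun σ => L.he σ.1 σ.2 _
  letI : Algebra FW FD := ρW.toRingHom.toAlgebra
  haveI : IsScalarTower L.C.R FW FD := IsScalarTower.of_algebraMap_eq fun r => (ρW.commutes r).symm
  haveI : IsLocalization.Away (⟨L.e, heFW⟩ : FW) FD :=
    isLocalization_fixed (fun σ : L.C.H => permHom f d σ.1) L.hW (fun σ => L.W_stable σ.1)
      (fun σ => L.D_stable σ.2) L.D_eq L.D_le_W FW FD (fun x => Iff.rfl) (fun x => Iff.rfl) heFW fun x => rfl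
  set qa := (q.appLE L.VY L.W le_rfl).hom with hqa
  have hqinj : Function.Injective qa := quot_injective_appLE hq.isQuot rfl
  have hfix : ∀ {x}, x ∈ FW → L.IsFix x := fun {x} hx σ hσ => hx ⟨σ⁻¹, L.C.H.inv_mem hσ⟩
  let iq : Γ(Y, L.VY) →ₐ[L.C.R] FW :=
    { toFun := fun b => ⟨qa b, fun σ => by
        have := L.appLE_inv b σ.1⁻¹
        simpa [Loc.b, inv_inv] using this⟩
      map_one' := Subtype.ext (map_one _)
      map_mul' := fun a b => Subtype.ext (map_mul _ _ _)
      map_zero' := Subtype.ext (map_zero _)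
      map_add' := fun a b => Subtype.ext (map_add _ _ _)
      commutes' := fun r => Subtype.ext (by
        change (g.appLE L.C.S₀ L.VY hle ≫ q.appLE L.VY L.W le_rfl).hom r = _
        rw [Scheme.Hom.appLE_comp_appLE]
        simp only [hq.over]
        rfl) }
  choose T hT using fun x : FW => L.tr_mem_range hq.isQuot (Loc.IsFix.mul L L.isFix_e (hfix x.2))
  have hTi : ∀ b x, T (iq b * x) = b * T x := fun b x => hqinj <| by
    change (q.appLE L.VY L.W le_rfl).hom (T (iq b * x)) = (q.appLE L.VY L.W le_rfl).hom (b * T x)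
    rw [map_mul, hT, hT, MulMemClass.coe_mul, mul_left_comm]
    exact L.tr_mul_inv _ (L.appLE_inv b) _
  let Tl : FW →ₗ[L.C.R] Γ(Y, L.VY) :=
    { toFun := T
      map_add' := fun a b => hqinj <| by
        change (q.appLE L.VY L.W le_rfl).hom (T (a + b)) = (q.appLE L.VY L.W le_rfl).hom (T a + T b)
        rw [map_add, hT, hT, hT, AddMemClass.coe_add, mul_add, L.tr_add]
      map_smul' := fun c a => by
        rw [Algebra.smul_def, ← iq.commutes, hTi, RingHom.id_apply, Algebra.smul_def] }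
  set x := iq.toLinearMap.rTensor N k
  have hx : (IsScalarTower.toAlgHom L.C.R FW FD).toLinearMap.rTensor N x = 0 := by
    apply Module.Flat.lTensor_preserves_injective_linearMap (M := FD) l hl
    rw [map_zero]
    have : ∀ k : Γ(Y, L.VY) ⊗[L.C.R] N, l.lTensor FD ((IsScalarTower.toAlgHom L.C.R FW FD).toLinearMap.rTensor N
        (iq.toLinearMap.rTensor N k)) =
      ((IsScalarTower.toAlgHom L.C.R FW FD).toLinearMap ∘ₗ iq.toLinearMap).rTensor N' (l.lTensor Γ(Y, L.VY) k) :=
      fun k => by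
        induction k using TensorProduct.induction_on with
        | zero => simp only [map_zero]
        | add a b ha hb => simp only [map_add, ha, hb]
        | tmul a n => rfl
    rw [this, hk, map_zero]
  obtain ⟨n, hn⟩ := exists_pow_smul_eq_zero (⟨L.e, heFW⟩ : FW) x hx
  set v := T ((⟨L.e, heFW⟩ : FW) ^ n)
  have key : ∀ k : Γ(Y, L.VY) ⊗[L.C.R] N,
      Tl.rTensor N (((⟨L.e, heFW⟩ : FW) ^ n) • iq.toLinearMap.rTensor N k) = v • k := fun k => by
    induction k using TensorProduct.induction_on with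
    | zero => simp only [map_zero, smul_zero]
    | add a b ha hb => simp only [map_add, smul_add, ha, hb]
    | tmul a m =>
      rw [LinearMap.rTensor_tmul, TensorProduct.smul_tmul', LinearMap.rTensor_tmul, TensorProduct.smul_tmul']
      congr 1
      change T (_ * iq a) = v * a
      rw [mul_comm, hTi, mul_comm]
  have hvJ : v ∈ J := by
    change v • k = 0
    rw [← key, hn, map_zero]
  have hvz : z ∈ (fibPow f d).basicOpen (qa v) := by
    rw [← Scheme.evaluation_ne_zero_iff_mem_basicOpen (U := L.W) (fibPow f d) z L.mem_W, hqa, hT,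
      L.eval_tr (hfix ((⟨L.e, heFW⟩ : FW) ^ n).2), map_mul, SubmonoidClass.coe_pow, map_pow]
    exact mul_ne_zero L.eval_e_ne_zero (pow_ne_zero _ L.eval_e_ne_zero)
  rw [hqa, Scheme.basicOpen_appLE] at hvz
  have hyv : y ∈ Y.basicOpen v := hz ▸ hvz.2
  have hmem : (⟨P, hP.isPrime⟩ : Spec Γ(Y, L.VY)) ∈ hV.fromSpec ⁻¹ᵁ Y.basicOpen v := hyv
  rw [hV.fromSpec_preimage_basicOpen] at hmem
  exact hmem (hJP hvJ)

end SymProdCmp
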