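import Groth.Agent.SymProdCmpLib.Orbit
import Groth.Prelude.Def_SymProd
import Mathlib.AlgebraicGeometry.AffineScheme

/-!
# Coloured affine charts of fibre powers
-/

set_option autoImplicit false
set_option backward.isDefEq.respectTransparency false
set_option backward.isDefEq.respectTransparency.types false
noncomputable section

universe u

open CategoryTheory CategoryTheory.Limits AlgebraicGeometry TopologicalSpace SymProd
open scoped TensorProduct

namespace SymProdCmp

variable {X S : Scheme.{u}}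

/-- An affine open of the base and an affine open over it for each colour, the factors being coloured. -/
structure Col (f : X ⟶ S) (d : ℕ) where
  S₀ : S.Opens
  hS₀ : IsAffineOpen S₀
  J : Type u
  [finJ : Fintype J]
  [decJ : DecidableEq J]
  c : Fin d → J
  U : J → X.Opens
  hU : ∀ j, IsAffineOpen (U j)
  hle : ∀ j, U j ≤ f ⁻¹ᵁ S₀

attribute [instance] Col.finJ Col.decJ

namespace Col

variable {f : X ⟶ S} {d : ℕ} (C : Col f d)

/-- The ring of the base. -/
abbrev R : Type u := Γ(S, C.S₀)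

instance (j : C.J) : Algebra C.R Γ(X, C.U j) := (f.appLE C.S₀ (C.U j) (C.hle j)).hom.toAlgebra

/-- The functions on all colours. -/
abbrev A : Type u := ∀ j, Γ(X, C.U j)

/-- The tensor power. -/
abbrev T : Type u := ⨂[C.R] _ : Fin d, C.A

/-- The chart. -/
def V : (fibPow f d).Opens :=
  (WidePullback.base (fun _ : Fin d => f) ⁻¹ᵁ C.S₀) ⊓
    Finset.univ.inf fun i => WidePullback.π (fun _ : Fin d => f) i ⁻¹ᵁ C.U (C.c i)

theorem mem_V {x : fibPow f d} : x ∈ C.V ↔
    WidePullback.base (fun _ : Fin d => f) x ∈ C.S₀ ∧ ∀ i, WidePullback.π (fun _ : Fin d => f) i x ∈ C.U (C.c i) := by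
  have : ∀ s : Finset (Fin d), (x ∈ s.inf fun i => WidePullback.π (fun _ : Fin d => f) i ⁻¹ᵁ C.U (C.c i)) ↔
      ∀ i ∈ s, WidePullback.π (fun _ : Fin d => f) i x ∈ C.U (C.c i) := fun s => by
    induction s using Finset.induction_on with
    | empty => simp
    | insert a s ha ih => rw [Finset.inf_insert, Finset.forall_mem_insert, ← ih]; rfl
  exact (and_congr Iff.rfl (this _)).trans (by simp)

theorem V_le_base : C.V ≤ WidePullback.base (fun _ : Fin d => f) ⁻¹ᵁ C.S₀ := inf_le_left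

theorem V_le_π (i : Fin d) : C.V ≤ WidePullback.π (fun _ : Fin d => f) i ⁻¹ᵁ C.U (C.c i) :=
  inf_le_right.trans (Finset.inf_le (Finset.mem_univ i))

instance : Algebra C.R Γ(fibPow f d, C.V) :=
  ((WidePullback.base (fun _ : Fin d => f)).appLE C.S₀ C.V C.V_le_base).hom.toAlgebra

/-- The pullback along a projection. -/
def proj (i : Fin d) : Γ(X, C.U (C.c i)) →ₐ[C.R] Γ(fibPow f d, C.V) where
  __ := ((WidePullback.π (fun _ : Fin d => f) i).appLE (C.U (C.c i)) C.V (C.V_le_π i)).hom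
  commutes' r := by
    change ((f.appLE C.S₀ (C.U (C.c i)) (C.hle _)) ≫ (WidePullback.π (fun _ : Fin d => f) i).appLE _ C.V (C.V_le_π i)).hom r = _
    rw [Scheme.Hom.appLE_comp_appLE]
    simp only [WidePullback.π_arrow]
    rfl

theorem proj_apply (i : Fin d) (a : Γ(X, C.U (C.c i))) :
    C.proj i a = ((WidePullback.π (fun _ : Fin d => f) i).appLE (C.U (C.c i)) C.V (C.V_le_π i)).hom a := rfl

/-- The comparison of the tensor power with the functions on the chart. -/
def θ : C.T →ₐ[C.R] Γ(fibPow f d, C.V) :=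
  piLift fun i => (C.proj i).comp (Pi.evalAlgHom C.R (fun j => Γ(X, C.U j)) (C.c i))

theorem θ_tprod (a : Fin d → C.A) : C.θ (PiTensorProduct.tprod C.R a) = ∏ i, C.proj i (a i (C.c i)) := by
  simp [θ]

/-- The indicator of a colour. -/
def δ (j : C.J) : C.A := Pi.single j 1

/-- The idempotent of a colouring. -/
def ε (h : Fin d → C.J) : C.T := PiTensorProduct.tprod C.R (C.δ ∘ h)

theorem θ_ε : C.θ (C.ε C.c) = 1 := by
  rw [ε, θ_tprod]
  exact Finset.prod_eq_one fun i _ => by simp [δ]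

theorem θ_ε_of_ne {h : Fin d → C.J} (hh : h ≠ C.c) : C.θ (C.ε h) = 0 := by
  obtain ⟨i, hi⟩ := Function.ne_iff.1 hh
  rw [ε, θ_tprod]
  refine Finset.prod_eq_zero (Finset.mem_univ i) ?_
  simp [δ, Pi.single_eq_of_ne (Ne.symm hi)]

theorem ε_mul_ε_of_ne {h h' : Fin d → C.J} (hh : h ≠ h') : C.ε h * C.ε h' = 0 := by
  obtain ⟨i, hi⟩ := Function.ne_iff.1 hh
  rw [ε, ε, PiTensorProduct.tprod_mul_tprod]
  refine MultilinearMap.map_coord_zero _ i ?_
  funext j
  simp only [Pi.mul_apply, Function.comp_apply, δ]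
  rcases eq_or_ne j (h i) with rfl | h1
  · rw [Pi.single_eq_of_ne hi, mul_zero]; rfl
  · rw [Pi.single_eq_of_ne h1, zero_mul]; rfl

theorem ε_mul_ε (h : Fin d → C.J) : C.ε h * C.ε h = C.ε h := by
  rw [ε, PiTensorProduct.tprod_mul_tprod]
  congr 1
  funext i j
  simp only [Pi.mul_apply, Function.comp_apply, δ]
  rcases eq_or_ne j (h i) with rfl | h1
  · simp
  · simp [Pi.single_eq_of_ne h1]

/-- The ring of the chart. -/
abbrev T₁ : Type u := Localization.Away (C.ε C.c)

/-- The map to the ring of the chart. -/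
def loc : C.T →ₐ[C.R] C.T₁ := IsScalarTower.toAlgHom C.R C.T C.T₁

theorem loc_surjective : Function.Surjective C.loc := fun x => by
  obtain ⟨n, t, h⟩ := IsLocalization.Away.surj (C.ε C.c) x
  have e : algebraMap C.T C.T₁ (C.ε C.c) = 1 := by
    have hu : IsUnit (algebraMap C.T C.T₁ (C.ε C.c)) := IsLocalization.Away.algebraMap_isUnit _
    exact hu.mul_left_cancel (((map_mul _ _ _).symm.trans (congrArg _ (C.ε_mul_ε _))).trans (mul_one _).symm)
  rw [e, one_pow, mul_one] at h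
  exact ⟨t, h.symm⟩

theorem ε_eq_one : C.loc (C.ε C.c) = 1 := by
  have hu : IsUnit (algebraMap C.T C.T₁ (C.ε C.c)) := IsLocalization.Away.algebraMap_isUnit _
  exact hu.mul_left_cancel (((map_mul _ _ _).symm.trans (congrArg _ (C.ε_mul_ε _))).trans (mul_one _).symm)

theorem single_δ (i : Fin d) : C.loc
    (PiTensorProduct.singleAlgHom (R := C.R) (A := fun _ : Fin d => C.A) i (C.δ (C.c i))) = 1 := by
  rw [← one_mul (C.loc _), ← C.ε_eq_one, ← map_mul]
  congr 1
  change PiTensorProduct.tprod C.R _ * PiTensorProduct.tprod C.R (Pi.mulSingle (M := fun _ : Fin d => C.A) i (C.δ (C.c i))) = _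
  rw [PiTensorProduct.tprod_mul_tprod]
  congr 1
  funext k
  by_cases hk : k = i
  · subst hk
    funext j
    simp only [Pi.mul_apply, Pi.mulSingle_eq_same, Function.comp_apply, δ]
    rcases eq_or_ne j (C.c k) with rfl | h1
    · simp
    · simp [Pi.single_eq_of_ne h1]
  · rw [Pi.mul_apply, Pi.mulSingle_eq_of_ne hk, mul_one]

/-- A factor. -/
def incl (i : Fin d) : Γ(X, C.U (C.c i)) →ₐ[C.R] C.T₁ where
  toFun a := C.loc
    (PiTensorProduct.singleAlgHom (R := C.R) (A := fun _ : Fin d => C.A) i (Pi.single (C.c i) a))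
  map_one' := C.single_δ i
  map_mul' a b := by rw [Pi.single_mul, map_mul, map_mul]
  map_zero' := by rw [Pi.single_zero, map_zero, map_zero]
  map_add' a b := by rw [Pi.single_add, map_add, map_add]
  commutes' r := by
    have h : Pi.single (C.c i) (algebraMap C.R Γ(X, C.U (C.c i)) r) = algebraMap C.R C.A r * C.δ (C.c i) := by
      funext j
      by_cases hj : j = C.c i
      · subst hj; simp [δ]
      · simp [δ, Pi.single_eq_of_ne hj]
    rw [h, map_mul, map_mul, C.single_δ i, mul_one, AlgHom.commutes, AlgHom.commutes]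

theorem mk_single (i : Fin d) (a : C.A) :
    C.loc
      (PiTensorProduct.singleAlgHom (R := C.R) (A := fun _ : Fin d => C.A) i a) = C.incl i (a (C.c i)) := by
  have h : Pi.single (C.c i) (a (C.c i)) = a * C.δ (C.c i) := by
    funext j
    by_cases hj : j = C.c i
    · subst hj; simp [δ]
    · simp [δ, Pi.single_eq_of_ne hj]
  change _ = C.loc (PiTensorProduct.singleAlgHom (R := C.R) (A := fun _ : Fin d => C.A) i (Pi.single (C.c i) (a (C.c i))))
  rw [h, map_mul, map_mul, C.single_δ i, mul_one]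

/-- The factorisation of `θ`. -/
def θ₁ : C.T₁ →ₐ[C.R] Γ(fibPow f d, C.V) :=
  IsLocalization.liftAlgHom (M := Submonoid.powers (C.ε C.c)) (f := C.θ) (by
    rintro ⟨_, n, rfl⟩
    simp [θ_ε])

theorem θ₁_mk (x : C.T) : C.θ₁ (C.loc x) = C.θ x := IsLocalization.lift_eq _ x

theorem θ₁_incl (i : Fin d) (a : Γ(X, C.U (C.c i))) : C.θ₁ (C.incl i a) = C.proj i a := by
  refine (C.θ₁_mk _).trans ?_
  change C.θ (PiTensorProduct.tprod C.R (Pi.mulSingle (M := fun _ : Fin d => C.A) i (Pi.single (C.c i) a))) = _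
  rw [θ_tprod, Finset.prod_eq_single i]
  · simp
  · intro k _ hk
    rw [Pi.mulSingle_eq_of_ne hk]
    simp
  · simp

/-- The map to the spectrum. -/
def Q : C.V.toScheme ⟶ Spec (CommRingCat.of C.T₁) :=
  C.V.toSpecΓ ≫ Spec.map (CommRingCat.ofHom C.θ₁.toRingHom)

theorem Q_incl (i : Fin d) :
    C.Q ≫ Spec.map (CommRingCat.ofHom (C.incl i).toRingHom) ≫ (C.hU (C.c i)).fromSpec =
      C.V.ι ≫ WidePullback.π (fun _ : Fin d => f) i := by
  have h : CommRingCat.ofHom (C.incl i).toRingHom ≫ CommRingCat.ofHom C.θ₁.toRingHom =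
      (WidePullback.π (fun _ : Fin d => f) i).appLE (C.U (C.c i)) C.V (C.V_le_π i) := by
    refine CommRingCat.hom_ext (RingHom.ext fun a => ?_)
    exact C.θ₁_incl i a
  rw [Q, Category.assoc, ← Spec.map_comp_assoc, h, Scheme.Opens.toSpecΓ_SpecMap_appLE_assoc,
    IsAffineOpen.toSpecΓ_fromSpec, Scheme.Hom.resLE_comp_ι]

theorem Q_base :
    C.Q ≫ Spec.map (CommRingCat.ofHom (algebraMap C.R C.T₁)) ≫ C.hS₀.fromSpec =
      C.V.ι ≫ WidePullback.base (fun _ : Fin d => f) := by
  have h : CommRingCat.ofHom (algebraMap C.R C.T₁) ≫ CommRingCat.ofHom C.θ₁.toRingHom =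
      (WidePullback.base (fun _ : Fin d => f)).appLE C.S₀ C.V C.V_le_base :=
    CommRingCat.hom_ext (RingHom.ext fun r => C.θ₁.commutes r)
  rw [Q, Category.assoc, ← Spec.map_comp_assoc, h, Scheme.Opens.toSpecΓ_SpecMap_appLE_assoc,
    IsAffineOpen.toSpecΓ_fromSpec, Scheme.Hom.resLE_comp_ι]

/-- The inverse map. -/
def P : Spec (CommRingCat.of C.T₁) ⟶ fibPow f d :=
  WidePullback.lift (Spec.map (CommRingCat.ofHom (algebraMap C.R C.T₁)) ≫ C.hS₀.fromSpec)
    (fun i => Spec.map (CommRingCat.ofHom (C.incl i).toRingHom) ≫ (C.hU (C.c i)).fromSpec) fun i => by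
      rw [Category.assoc, ← IsAffineOpen.SpecMap_appLE_fromSpec f C.hS₀ (C.hU (C.c i)) (C.hle _),
        ← Spec.map_comp_assoc]
      congr 2
      exact CommRingCat.hom_ext (RingHom.ext fun r => (C.incl i).commutes r)

theorem P_π (i : Fin d) : C.P ≫ WidePullback.π (fun _ : Fin d => f) i =
    Spec.map (CommRingCat.ofHom (C.incl i).toRingHom) ≫ (C.hU (C.c i)).fromSpec :=
  WidePullback.lift_π _ _ _ _ i

theorem P_base : C.P ≫ WidePullback.base (fun _ : Fin d => f) =
    Spec.map (CommRingCat.ofHom (algebraMap C.R C.T₁)) ≫ C.hS₀.fromSpec :=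
  WidePullback.lift_base _ _ _ _

theorem Q_P : C.Q ≫ C.P = C.V.ι := by
  apply WidePullback.hom_ext
  · intro i; rw [Category.assoc, P_π, Q_incl]
  · rw [Category.assoc, P_base, Q_base]

theorem P_mem (y : Spec (CommRingCat.of C.T₁)) : C.P y ∈ C.V := by
  refine C.mem_V.2 ⟨?_, fun i => ?_⟩
  · rw [← Scheme.Hom.comp_apply, P_base, Scheme.Hom.comp_apply]
    exact C.hS₀.range_fromSpec.le ⟨_, rfl⟩
  · rw [← Scheme.Hom.comp_apply, P_π, Scheme.Hom.comp_apply]
    exact (C.hU (C.c i)).range_fromSpec.le ⟨_, rfl⟩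

/-- The inverse map into the chart. -/
def PV : Spec (CommRingCat.of C.T₁) ⟶ C.V.toScheme :=
  IsOpenImmersion.lift C.V.ι C.P (by rintro _ ⟨y, rfl⟩; rw [Scheme.Opens.range_ι]; exact C.P_mem y)

theorem PV_ι : C.PV ≫ C.V.ι = C.P := IsOpenImmersion.lift_fac _ _ _

theorem PV_Q : C.PV ≫ C.Q = 𝟙 _ := by
  obtain ⟨φ, hφ⟩ := Spec.map_surjective (C.PV ≫ C.Q)
  have key : ∀ (i : Fin d) (a : Γ(X, C.U (C.c i))), φ (C.incl i a) = C.incl i a := fun i a => by
    have h : Spec.map (CommRingCat.ofHom (C.incl i).toRingHom ≫ φ) = Spec.map (CommRingCat.ofHom (C.incl i).toRingHom) := by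
      rw [Spec.map_comp, ← cancel_mono (C.hU (C.c i)).fromSpec, Category.assoc, hφ, Category.assoc, Q_incl,
        ← Category.assoc, PV_ι, P_π]
    exact congrArg (fun m : _ ⟶ CommRingCat.of C.T₁ => m a) (Spec.map_injective h)
  have hR : ∀ r : C.R, φ (algebraMap C.R C.T₁ r) = algebraMap C.R C.T₁ r := fun r => by
    have h : Spec.map (CommRingCat.ofHom (algebraMap C.R C.T₁) ≫ φ) = Spec.map (CommRingCat.ofHom (algebraMap C.R C.T₁)) := by
      rw [Spec.map_comp, ← cancel_mono C.hS₀.fromSpec, Category.assoc, hφ, Category.assoc, Q_base,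
        ← Category.assoc, PV_ι, P_base]
    exact congrArg (fun m : _ ⟶ CommRingCat.of C.T₁ => m r) (Spec.map_injective h)
  let φ' : C.T₁ →ₐ[C.R] C.T₁ := { __ := φ.hom, commutes' := hR }
  have h2 : φ'.comp (C.loc) = C.loc := by
    refine PiTensorProduct.algHom_ext fun i => AlgHom.ext fun a => ?_
    simp only [AlgHom.comp_apply, mk_single]
    exact key i _
  rw [← hφ, ← Spec.map_id]
  congr 1
  refine CommRingCat.hom_ext (RingHom.ext fun x => ?_)
  obtain ⟨t, rfl⟩ := C.loc_surjective x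
  exact DFunLike.congr_fun h2 t

theorem isIso_Q : IsIso C.Q :=
  ⟨C.PV, by rw [← cancel_mono C.V.ι, Category.assoc, PV_ι, Q_P, Category.id_comp], C.PV_Q⟩

theorem isAffineOpen_V : IsAffineOpen C.V := by
  haveI := C.isIso_Q
  exact IsAffine.of_isIso C.Q

theorem θ₁_bijective : Function.Bijective C.θ₁ := by
  haveI := C.isIso_Q
  haveI : IsAffine C.V.toScheme := C.isAffineOpen_V
  haveI : IsIso C.V.toSpecΓ := ⟨C.isAffineOpen_V.isoSpec.inv, C.isAffineOpen_V.toSpecΓ_isoSpec_inv,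
    C.isAffineOpen_V.isoSpec_inv_toSpecΓ⟩
  haveI : IsIso (Spec.map (CommRingCat.ofHom C.θ₁.toRingHom)) :=
    IsIso.of_isIso_fac_left (show C.V.toSpecΓ ≫ _ = C.Q from rfl)
  exact isIso_SpecMap_iff.mp ‹IsIso (Spec.map (CommRingCat.ofHom C.θ₁.toRingHom))›

theorem θ_surjective : Function.Surjective C.θ := fun x => by
  obtain ⟨y, rfl⟩ := C.θ₁_bijective.2 x
  obtain ⟨t, rfl⟩ := C.loc_surjective y
  exact ⟨t, (C.θ₁_mk t).symm⟩

theorem ε_mul_eq_zero {t : C.T} (h : C.θ t = 0) : C.ε C.c * t = 0 := by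
  have h1 : C.loc t = 0 :=
    C.θ₁_bijective.1 (by rw [θ₁_mk, h, map_zero])
  obtain ⟨⟨_, n, rfl⟩, hn⟩ := (IsLocalization.map_eq_zero_iff (Submonoid.powers (C.ε C.c)) C.T₁ t).1 h1
  change C.ε C.c ^ n * t = 0 at hn
  rcases n with _ | n
  · rw [pow_zero, one_mul] at hn; rw [hn, mul_zero]
  · have hp : C.ε C.c ^ (n + 1) = C.ε C.c := (IsIdempotentElem.pow_succ_eq n (show IsIdempotentElem (C.ε C.c) from C.ε_mul_ε _))
    rwa [hp] at hn

end Col

end SymProdCmp
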