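import Groth.Agent.SymProdCmpLib.Primed

/-!
# The comparison of symmetric products near a point
-/

set_option autoImplicit false
set_option backward.isDefEq.respectTransparency false
set_option backward.isDefEq.respectTransparency.types false
noncomputable section

universe u

open CategoryTheory CategoryTheory.Limits AlgebraicGeometry TopologicalSpace SymProd
open scoped TensorProduct

namespace SymProdCmp

theorem evaluation_appLE {A B : Scheme.{u}} (φ : A ⟶ B) {U : B.Opens} {V : A.Opens} (e : V ≤ φ ⁻¹ᵁ U) (x : A) (hx : x ∈ V)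
    (s : Γ(B, U)) :
    A.evaluation V x hx ((φ.appLE U V e).hom s) = φ.residueFieldMap x (B.evaluation U (φ x) (e hx) s) := by
  rw [Scheme.evaluation_naturality_apply]
  exact evaluation_res e x hx ((φ.app U).hom s)

variable {X S Y X' S' : Scheme.{u}} {f : X ⟶ S} {d : ℕ} {q : fibPow f d ⟶ Y} {g : Y ⟶ S}

/-- The map to the base change of the symmetric product. -/
def cmpMap (hover : q ≫ g = WidePullback.base (fun _ : Fin d => f)) (f' : X' ⟶ S') (gS : S' ⟶ S) (h : X' ⟶ X)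
    (w : h ≫ f = f' ≫ gS) : fibPow f' d ⟶ pullback g gS :=
  pullback.lift (powMap f f' gS h w d ≫ q) (WidePullback.base (fun _ : Fin d => f'))
    (by rw [Category.assoc, hover, powMap_base])

variable (f' : X' ⟶ S') (gS : S' ⟶ S) (h : X' ⟶ X) (w : h ≫ f = f' ≫ gS)
  [IsClosedImmersion (pullback.lift h f' w)] {z' : fibPow f' d} (L : Loc f d q (powMap f f' gS h w d z'))
  (S₀' : S'.Opens) (hS₀' : IsAffineOpen S₀') (hle' : S₀' ≤ gS ⁻¹ᵁ L.C.S₀)
  (hz' : WidePullback.base (fun _ : Fin d => f') z' ∈ S₀')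

namespace Loc

/-- The source chart of the affine open of the quotient. -/
abbrev W' : (fibPow f' d).Opens :=
  powMap f f' gS h w d ⁻¹ᵁ L.W ⊓ WidePullback.base (fun _ : Fin d => f') ⁻¹ᵁ S₀'

/-- The small open of the source. -/
abbrev D' : (fibPow f' d).Opens :=
  powMap f f' gS h w d ⁻¹ᵁ L.D ⊓ WidePullback.base (fun _ : Fin d => f') ⁻¹ᵁ S₀'

/-- The coloured chart of the source. -/
abbrev C' : Col f' d := L.C.primed f' gS h w S₀' hS₀' hle'

/-- The pullback to the source. -/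
abbrev pb : Γ(fibPow f d, L.W) →+* Γ(fibPow f' d, L.W' f' gS h w S₀') :=
  ((powMap f f' gS h w d).appLE L.W (L.W' f' gS h w S₀') inf_le_left).hom

/-- The pullback from the new base. -/
abbrev pbR : Γ(S', S₀') →+* Γ(fibPow f' d, L.W' f' gS h w S₀') :=
  ((WidePullback.base (fun _ : Fin d => f')).appLE S₀' (L.W' f' gS h w S₀') inf_le_right).hom

include hz' in
theorem mem_W' : z' ∈ L.W' f' gS h w S₀' := ⟨L.mem_W, hz'⟩

include hz' in
theorem mem_D' : z' ∈ L.D' f' gS h w S₀' := ⟨L.mem, hz'⟩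

theorem W'_stable (σ : Equiv.Perm (Fin d)) :
    L.W' f' gS h w S₀' ≤ permHom f' d σ ⁻¹ᵁ L.W' f' gS h w S₀' := by
  rintro x ⟨h1, h2⟩
  refine ⟨?_, ?_⟩
  · change powMap f f' gS h w d (permHom f' d σ x) ∈ L.W
    rw [← Scheme.Hom.comp_apply, permHom_powMap, Scheme.Hom.comp_apply]
    exact L.W_stable σ h1
  · change WidePullback.base (fun _ : Fin d => f') (permHom f' d σ x) ∈ S₀'
    rw [← Scheme.Hom.comp_apply, permHom_base]
    exact h2

/-- The action on the functions of the source. -/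
def b' (σ : Equiv.Perm (Fin d)) : Γ(fibPow f' d, L.W' f' gS h w S₀') →+* Γ(fibPow f' d, L.W' f' gS h w S₀') :=
  pullSelf (permHom f' d σ⁻¹) (L.W'_stable f' gS h w S₀' _)

theorem b'_pb (σ : Equiv.Perm (Fin d)) (y : Γ(fibPow f d, L.W)) :
    L.b' f' gS h w S₀' σ (L.pb f' gS h w S₀' y) = L.pb f' gS h w S₀' (L.b σ y) := by
  change ((powMap f f' gS h w d).appLE L.W _ inf_le_left ≫ (permHom f' d σ⁻¹).appLE _ _ (L.W'_stable f' gS h w S₀' _)).hom y =
    ((permHom f d σ⁻¹).appLE L.W L.W (L.W_stable _) ≫ (powMap f f' gS h w d).appLE L.W _ inf_le_left).hom y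
  rw [Scheme.Hom.appLE_comp_appLE, Scheme.Hom.appLE_comp_appLE]
  simp only [permHom_powMap]

theorem b'_pbR (σ : Equiv.Perm (Fin d)) (r : Γ(S', S₀')) :
    L.b' f' gS h w S₀' σ (L.pbR f' gS h w S₀' r) = L.pbR f' gS h w S₀' r := by
  change ((WidePullback.base (fun _ : Fin d => f')).appLE S₀' _ inf_le_right ≫
    (permHom f' d σ⁻¹).appLE _ _ (L.W'_stable f' gS h w S₀' _)).hom r = _
  rw [Scheme.Hom.appLE_comp_appLE]
  simp only [permHom_base]

theorem D'_le_W' : L.D' f' gS h w S₀' ≤ L.W' f' gS h w S₀' := inf_le_inf_right _ ((powMap f f' gS h w d).preimage_mono L.D_le_W)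

theorem D'_le_V' : L.D' f' gS h w S₀' ≤ (L.C' f' gS h w S₀' hS₀' hle').V :=
  (inf_le_inf_right _ ((powMap f f' gS h w d).preimage_mono L.D_le_V)).trans (primed_V L.C f' gS h w S₀' hS₀' hle').ge

theorem D'_eq_W : L.D' f' gS h w S₀' = (fibPow f' d).basicOpen (L.pb f' gS h w S₀' L.e) := by
  rw [Scheme.basicOpen_appLE, ← L.D_eq]
  exact le_antisymm (le_inf (L.D'_le_W' f' gS h w S₀') inf_le_left) (fun x hx => ⟨hx.2, hx.1.2⟩)

/-- The function cutting out the small open in the chart. -/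
abbrev t₀' : Γ(fibPow f' d, (L.C' f' gS h w S₀' hS₀' hle').V) :=
  ((powMap f f' gS h w d).appLE L.C.V _ (primed_V_le L.C f' gS h w S₀' hS₀' hle')).hom L.t₀

theorem D'_eq_V : L.D' f' gS h w S₀' = (fibPow f' d).basicOpen (L.t₀' f' gS h w S₀' hS₀' hle') := by
  rw [Scheme.basicOpen_appLE, ← L.D_eq', primed_V]
  exact le_antisymm (le_inf (inf_le_inf_right _ ((powMap f f' gS h w d).preimage_mono L.D_le_V)) inf_le_left)
    (fun x hx => ⟨hx.2, hx.1.2⟩)

theorem exists_num (h' : Γ(fibPow f' d, L.W' f' gS h w S₀')) (hh' : ∀ σ, L.b' f' gS h w S₀' σ h' = h') :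
    ∃ (k : ℕ) (a : Γ(fibPow f' d, (L.C' f' gS h w S₀' hS₀' hle').V)), a ∈ (L.C' f' gS h w S₀' hS₀' hle').inv ∧
      resTo (L.D'_le_V' f' gS h w S₀' hS₀' hle') a = resTo (L.D'_le_W' f' gS h w S₀') h' *
        resTo (L.D'_le_V' f' gS h w S₀' hS₀' hle') (L.t₀' f' gS h w S₀' hS₀' hle') ^ k := by
  set C' := L.C' f' gS h w S₀' hS₀' hle'
  have hstab : ∀ σ : C'.H, C'.V ≤ permHom f' d σ.1 ⁻¹ᵁ C'.V := fun σ => C'.V_le_preimage σ.2
  have ht : ∀ σ : C'.H, pullSelf (permHom f' d σ.1) (hstab σ) (L.t₀' f' gS h w S₀' hS₀' hle') =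
      L.t₀' f' gS h w S₀' hS₀' hle' := fun σ => by
    change ((powMap f f' gS h w d).appLE L.C.V C'.V _ ≫ (permHom f' d σ.1).appLE C'.V C'.V (hstab σ)).hom L.t₀ = _
    rw [Scheme.Hom.appLE_comp_appLE]
    conv_rhs => rw [Loc.t₀', ← L.ht₀ σ]
    change _ = ((permHom f d σ.1).appLE L.C.V L.C.V (L.C.V_le_preimage σ.2) ≫
      (powMap f f' gS h w d).appLE L.C.V C'.V _).hom L.t₀
    rw [Scheme.Hom.appLE_comp_appLE]
    simp only [permHom_powMap]
  have hD : ∀ σ : C'.H, L.D' f' gS h w S₀' ≤ permHom f' d σ.1 ⁻¹ᵁ L.D' f' gS h w S₀' := fun σ => by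
    rw [L.D'_eq_V f' gS h w S₀' hS₀' hle']
    exact le_preimage_basicOpen _ (hstab σ) (ht σ)
  obtain ⟨k, a, ha, he⟩ := exists_fixed_lift (fun σ : C'.H => permHom f' d σ.1) C'.isAffineOpen_V hstab hD
    (L.D'_eq_V f' gS h w S₀' hS₀' hle') (L.D'_le_V' f' gS h w S₀' hS₀' hle') ht
    (x := resTo (L.D'_le_W' f' gS h w S₀') h') (fun σ => by
      rw [pullSelf_res _ (L.W'_stable f' gS h w S₀' _)]
      have := hh' σ.1⁻¹
      simp only [Loc.b', inv_inv] at this
      rw [this])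
  exact ⟨k, a, fun σ => ha σ, he⟩

include hz' in
theorem eval_t₀'_ne_zero : (fibPow f' d).evaluation _ z' (L.D'_le_V' f' gS h w S₀' hS₀' hle' (L.mem_D' f' gS h w S₀' hz'))
    (L.t₀' f' gS h w S₀' hS₀' hle') ≠ 0 := by
  rw [Scheme.evaluation_ne_zero_iff_mem_basicOpen, ← L.D'_eq_V f' gS h w S₀' hS₀' hle']
  exact L.mem_D' f' gS h w S₀' hz'

include hS₀' hle' in
/-- The values of invariant functions lie in the subfield generated by the values of the pulled back functions. -/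
theorem eval_inv_mem (hq : SGA1.IsQuot (permActU f d) q) (E : Subfield ((fibPow f' d).residueField z'))
    (hR : ∀ r : Γ(S', S₀'),
      (fibPow f' d).evaluation _ z' (L.mem_W' f' gS h w S₀' hz') (L.pbR f' gS h w S₀' r) ∈ E)
    (hY : ∀ v : Γ(Y, L.VY), (fibPow f' d).evaluation _ z' (L.mem_W' f' gS h w S₀' hz')
      (L.pb f' gS h w S₀' ((q.appLE L.VY L.W le_rfl).hom v)) ∈ E)
    (h' : Γ(fibPow f' d, L.W' f' gS h w S₀')) (hh' : ∀ σ, L.b' f' gS h w S₀' σ h' = h') :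
    (fibPow f' d).evaluation _ z' (L.mem_W' f' gS h w S₀' hz') h' ∈ E := by
  set C' := L.C' f' gS h w S₀' hS₀' hle'
  have hzV := L.D'_le_V' f' gS h w S₀' hS₀' hle' (L.mem_D' f' gS h w S₀' hz')
  set ν := ((powMap f f' gS h w d).appLE L.C.V C'.V (primed_V_le L.C f' gS h w S₀' hS₀' hle')).hom
  have hE : ∀ x ∈ L.C.inv, (fibPow f' d).evaluation C'.V z' hzV (ν x) ∈ E := fun x hx => by
    rw [evaluation_appLE]
    refine L.eval_mem hq (E.comap ((powMap f f' gS h w d).residueFieldMap z').hom) (fun v => ?_) hx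
    rw [Subfield.mem_comap]
    have := hY v
    rwa [evaluation_appLE] at this
  obtain ⟨k, a, ha, he⟩ := L.exists_num f' gS h w S₀' hS₀' hle' h' hh'
  obtain ⟨y', hy', rfl⟩ := C'.exists_TS_lift ha
  letI : Algebra C'.R ((fibPow f' d).residueField z') :=
    (((fibPow f' d).evaluation C'.V z' hzV).hom.comp (algebraMap C'.R Γ(fibPow f' d, C'.V))).toAlgebra
  let evA : Γ(fibPow f' d, C'.V) →ₐ[C'.R] (fibPow f' d).residueField z' :=
    { __ := ((fibPow f' d).evaluation C'.V z' hzV).hom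
      commutes' := fun r => rfl }
  have hay : (fibPow f' d).evaluation C'.V z' hzV (C'.θ y') ∈ E := by
    refine apply_mem_subfield (R := L.C.R) (L.C.φ f' gS h w S₀' hS₀' hle') (span_φ L.C f' gS h w S₀' hS₀' hle')
      (evA.comp C'.θ) E (fun r => ?_) (fun g₀ => ?_) y' hy'
    · have := hR r
      rw [evaluation_appLE] at this
      change (fibPow f' d).evaluation C'.V z' hzV ((WidePullback.base (fun _ : Fin d => f')).appLE S₀' C'.V C'.V_le_base r) ∈ E
      rw [evaluation_appLE]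
      exact this
    · have h1 : L.C.Φ f' gS h w S₀' hS₀' hle' (orbSum L.C.R id g₀) = orbSum C'.R (L.C.φ f' gS h w S₀' hS₀' hle') g₀ := by
        rw [orbSum, orbSum, map_sum]
        exact Finset.sum_congr rfl fun x _ => Φ_tprod L.C f' gS h w S₀' hS₀' hle' _
      change (fibPow f' d).evaluation C'.V z' hzV (C'.θ _) ∈ E
      rw [← h1, θ_Φ]
      exact hE _ (L.C.θ_mem_inv (orbSum_mem_TS id g₀))
  have h1 := congrArg ((fibPow f' d).evaluation _ z' (L.mem_D' f' gS h w S₀' hz')) he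
  rw [map_mul, map_pow, evaluation_res, evaluation_res, evaluation_res] at h1
  rw [show (fibPow f' d).evaluation _ z' (L.mem_W' f' gS h w S₀' hz') h' =
    (fibPow f' d).evaluation C'.V z' hzV (C'.θ y') *
      (((fibPow f' d).evaluation C'.V z' hzV (L.t₀' f' gS h w S₀' hS₀' hle')) ^ k)⁻¹ by
      rw [h1, mul_inv_cancel_right₀ (pow_ne_zero _ (L.eval_t₀'_ne_zero f' gS h w S₀' hS₀' hle' hz'))]]
  exact mul_mem hay (inv_mem (pow_mem (hE _ L.ht₀) k))

/-- The subgroup spanned by pullbacks of partially invariant functions. -/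
def N' : AddSubgroup Γ(fibPow f' d, L.W' f' gS h w S₀') :=
  AddSubgroup.closure {x | ∃ (r : Γ(S', S₀')) (y : Γ(fibPow f d, L.W)), L.IsFix y ∧
    x = L.pbR f' gS h w S₀' r * L.pb f' gS h w S₀' y}

theorem N'_mul {m : Γ(fibPow f' d, L.W' f' gS h w S₀')} (hm : m ∈ L.N' f' gS h w S₀')
    {y : Γ(fibPow f d, L.W)} (hy : L.IsFix y) : m * L.pb f' gS h w S₀' y ∈ L.N' f' gS h w S₀' := by
  induction hm using AddSubgroup.closure_induction with
  | mem x hx =>
    obtain ⟨r, y₁, hy₁, rfl⟩ := hx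
    exact AddSubgroup.subset_closure ⟨r, y₁ * y, IsFix.mul L hy₁ hy, by rw [map_mul, mul_assoc]⟩
  | zero => rw [zero_mul]; exact zero_mem _
  | add a b _ _ ha hb => rw [add_mul]; exact add_mem ha hb
  | neg a _ ha => rw [neg_mul]; exact neg_mem ha

theorem N'_pbR {m : Γ(fibPow f' d, L.W' f' gS h w S₀')} (hm : m ∈ L.N' f' gS h w S₀') (r : Γ(S', S₀')) :
    L.pbR f' gS h w S₀' r * m ∈ L.N' f' gS h w S₀' := by
  induction hm using AddSubgroup.closure_induction with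
  | mem x hx =>
    obtain ⟨r₁, y₁, hy₁, rfl⟩ := hx
    exact AddSubgroup.subset_closure ⟨r * r₁, y₁, hy₁, by rw [map_mul, mul_assoc]⟩
  | zero => rw [mul_zero]; exact zero_mem _
  | add a b _ _ ha hb => rw [mul_add]; exact add_mem ha hb
  | neg a _ ha => rw [mul_neg]; exact neg_mem ha

/-- The transfer on the source. -/
def tr' (x : Γ(fibPow f' d, L.W' f' gS h w S₀')) : Γ(fibPow f' d, L.W' f' gS h w S₀') :=
  ∑ p : Equiv.Perm (Fin d) ⧸ L.C.H, L.b' f' gS h w S₀' p.out x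

theorem tr'_mem_range (hq : SGA1.IsQuot (permActU f d) q) (Rng : Subring Γ(fibPow f' d, L.W' f' gS h w S₀'))
    (hR : ∀ r, L.pbR f' gS h w S₀' r ∈ Rng)
    (hY : ∀ v : Γ(Y, L.VY), L.pb f' gS h w S₀' ((q.appLE L.VY L.W le_rfl).hom v) ∈ Rng)
    {m : Γ(fibPow f' d, L.W' f' gS h w S₀')} (hm : m ∈ L.N' f' gS h w S₀') : L.tr' f' gS h w S₀' m ∈ Rng := by
  induction hm using AddSubgroup.closure_induction with
  | mem x hx =>
    obtain ⟨r, y, hy, rfl⟩ := hx
    obtain ⟨v, hv⟩ := L.tr_mem_range hq hy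
    have : L.tr' f' gS h w S₀' (L.pbR f' gS h w S₀' r * L.pb f' gS h w S₀' y) =
        L.pbR f' gS h w S₀' r * L.pb f' gS h w S₀' (L.tr y) := by
      simp only [tr', tr, map_mul, b'_pbR, b'_pb, map_sum, Finset.mul_sum]
    rw [this, ← hv]
    exact mul_mem (hR r) (hY v)
  | zero => simp only [tr', map_zero, Finset.sum_const_zero]; exact zero_mem _
  | add a b _ _ ha hb => simp only [tr', map_add, Finset.sum_add_distrib]; exact add_mem ha hb
  | neg a _ ha => simp only [tr', map_neg, Finset.sum_neg_distrib]; exact neg_mem ha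

/-- If symmetric tensors of the source chart are spanned by symmetric tensors of the target chart, an invariant function
times a function from the quotient not vanishing at the point comes from the quotient. -/
theorem exists_mul_mem (hq : SGA1.IsQuot (permActU f d) q)
    (hW' : IsAffineOpen (L.W' f' gS h w S₀')) (Rng : Subring Γ(fibPow f' d, L.W' f' gS h w S₀'))
    (hR : ∀ r, L.pbR f' gS h w S₀' r ∈ Rng)
    (hY : ∀ v : Γ(Y, L.VY), L.pb f' gS h w S₀' ((q.appLE L.VY L.W le_rfl).hom v) ∈ Rng)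
    (hTS : ∀ t ∈ SymTen.TS (L.C' f' gS h w S₀' hS₀' hle').R (L.C' f' gS h w S₀' hS₀' hle').A d,
      t ∈ Submodule.span (L.C' f' gS h w S₀' hS₀' hle').R
        (L.C.Φ f' gS h w S₀' hS₀' hle' '' (SymTen.TS L.C.R L.C.A d : Set L.C.T)))
    (h' : Γ(fibPow f' d, L.W' f' gS h w S₀')) (hh' : ∀ σ, L.b' f' gS h w S₀' σ h' = h') :
    ∃ v : Γ(Y, L.VY), L.pb f' gS h w S₀' ((q.appLE L.VY L.W le_rfl).hom v) * h' ∈ Rng ∧
      (fibPow f' d).evaluation _ z' (L.mem_W' f' gS h w S₀' hz')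
        (L.pb f' gS h w S₀' ((q.appLE L.VY L.W le_rfl).hom v)) ≠ 0 := by
  set C' := L.C' f' gS h w S₀' hS₀' hle'
  set ρW := resTo (L.D'_le_W' f' gS h w S₀')
  set ρV := resTo (L.D'_le_V' f' gS h w S₀' hS₀' hle')
  have hpb : ∀ (y : Γ(fibPow f d, L.W)) (x : Γ(fibPow f d, L.C.V)) (k : ℕ),
      resTo L.D_le_W y = resTo L.D_le_V x * resTo L.D_le_W L.e ^ k →
      ρW (L.pb f' gS h w S₀' y) = ρV (((powMap f f' gS h w d).appLE L.C.V C'.V
        (primed_V_le L.C f' gS h w S₀' hS₀' hle')).hom x) * ρW (L.pb f' gS h w S₀' L.e) ^ k := by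
    intro y x k hk
    have nat : ∀ y, ρW (L.pb f' gS h w S₀' y) =
        ((powMap f f' gS h w d).appLE L.D (L.D' f' gS h w S₀') inf_le_left).hom (resTo L.D_le_W y) := fun y => by
      change ((powMap f f' gS h w d).appLE L.W _ inf_le_left ≫ (fibPow f' d).presheaf.map _).hom y =
        ((fibPow f d).presheaf.map _ ≫ (powMap f f' gS h w d).appLE L.D _ inf_le_left).hom y
      rw [Scheme.Hom.appLE_map, Scheme.Hom.map_appLE]
    have nat' : ∀ x, ρV (((powMap f f' gS h w d).appLE L.C.V C'.V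
        (primed_V_le L.C f' gS h w S₀' hS₀' hle')).hom x) =
        ((powMap f f' gS h w d).appLE L.D (L.D' f' gS h w S₀') inf_le_left).hom (resTo L.D_le_V x) := fun x => by
      change ((powMap f f' gS h w d).appLE L.C.V C'.V (primed_V_le L.C f' gS h w S₀' hS₀' hle') ≫ (fibPow f' d).presheaf.map _).hom x =
        ((fibPow f d).presheaf.map _ ≫ (powMap f f' gS h w d).appLE L.D _ inf_le_left).hom x
      rw [Scheme.Hom.appLE_map, Scheme.Hom.map_appLE]
    rw [nat, nat', nat, hk, map_mul, map_pow]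
  have hfr : ∀ t ∈ Submodule.span C'.R (L.C.Φ f' gS h w S₀' hS₀' hle' '' (SymTen.TS L.C.R L.C.A d : Set L.C.T)),
      ∃ (K : ℕ) (m : Γ(fibPow f' d, L.W' f' gS h w S₀')), m ∈ L.N' f' gS h w S₀' ∧
        ρV (C'.θ t) * ρW (L.pb f' gS h w S₀' L.e) ^ K = ρW m := by
    intro t ht
    induction ht using Submodule.span_induction with
    | mem x hx =>
      obtain ⟨s, hs, rfl⟩ := hx
      obtain ⟨K, y, hy, hxy⟩ := L.exists_fix_lift (L.C.θ_mem_inv hs)
      refine ⟨K, L.pb f' gS h w S₀' y, AddSubgroup.subset_closure ⟨1, y, hy, by rw [map_one, one_mul]⟩, ?_⟩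
      rw [θ_Φ]
      exact (hpb y _ K hxy).symm
    | zero => exact ⟨0, 0, zero_mem _, by simp⟩
    | add x y _ _ hx hy =>
      obtain ⟨K₁, m₁, hm₁, e₁⟩ := hx
      obtain ⟨K₂, m₂, hm₂, e₂⟩ := hy
      refine ⟨K₁ + K₂, m₁ * L.pb f' gS h w S₀' (L.e ^ K₂) + m₂ * L.pb f' gS h w S₀' (L.e ^ K₁),
        add_mem (L.N'_mul f' gS h w S₀' hm₁ (IsFix.pow L L.isFix_e _))
          (L.N'_mul f' gS h w S₀' hm₂ (IsFix.pow L L.isFix_e _)), ?_⟩
      simp only [map_add, map_mul, map_pow, ← e₁, ← e₂]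
      ring
    | smul r x _ hx =>
      obtain ⟨K, m, hm, e⟩ := hx
      refine ⟨K, L.pbR f' gS h w S₀' r * m, L.N'_pbR f' gS h w S₀' hm r, ?_⟩
      rw [show r • x = algebraMap C'.R C'.T r * x from Algebra.smul_def (R := C'.R) (A := ⨂[C'.R] _ : Fin d, C'.A) r x,
        map_mul, map_mul, mul_assoc, e, map_mul, C'.θ.commutes]
      congr 1
      change ((WidePullback.base (fun _ : Fin d => f')).appLE S₀' C'.V C'.V_le_base ≫ (fibPow f' d).presheaf.map _).hom r =
        ((WidePullback.base (fun _ : Fin d => f')).appLE S₀' (L.W' f' gS h w S₀') inf_le_right ≫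
          (fibPow f' d).presheaf.map _).hom r
      rw [Scheme.Hom.appLE_map, Scheme.Hom.appLE_map]
  obtain ⟨k, a, ha, he⟩ := L.exists_num f' gS h w S₀' hS₀' hle' h' hh'
  obtain ⟨y', hy', rfl⟩ := C'.exists_TS_lift ha
  obtain ⟨K, m, hm, em⟩ := hfr y' (hTS y' hy')
  obtain ⟨k₀, y₀, hy₀, hxy₀⟩ := L.exists_fix_lift L.ht₀
  have hy₀' := hpb y₀ L.t₀ k₀ hxy₀
  have key : ρW (h' * L.pb f' gS h w S₀' (y₀ ^ k * L.e ^ K)) = ρW (m * L.pb f' gS h w S₀' (L.e ^ (k₀ * k))) := by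
    change ρV _ = ρW _ * _ at he
    simp only [map_mul, map_pow, hy₀']
    rw [← em, he]
    ring
  letI : Algebra Γ(fibPow f' d, L.W' f' gS h w S₀') Γ(fibPow f' d, L.D' f' gS h w S₀') := ρW.toAlgebra
  obtain ⟨⟨_, n, rfl⟩, hn⟩ :=
    (@IsLocalization.eq_iff_exists _ _ (Submonoid.powers (L.pb f' gS h w S₀' L.e)) _ _ _
      (hW'.isLocalization_of_eq_basicOpen (L.pb f' gS h w S₀' L.e) (homOfLE (L.D'_le_W' f' gS h w S₀'))
        (L.D'_eq_W f' gS h w S₀')) _ _).1 key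
  change L.pb f' gS h w S₀' L.e ^ n * _ = L.pb f' gS h w S₀' L.e ^ n * _ at hn
  let y₁ : Γ(fibPow f d, L.W) := L.e ^ n * (y₀ ^ k * L.e ^ K)
  have hy₁ : L.IsFix y₁ := IsFix.mul L (IsFix.pow L L.isFix_e n) (IsFix.mul L (IsFix.pow L hy₀ k) (IsFix.pow L L.isFix_e K))
  have hm' : h' * L.pb f' gS h w S₀' (L.e * y₁) ∈ L.N' f' gS h w S₀' := by
    have : h' * L.pb f' gS h w S₀' (L.e * y₁) = m * L.pb f' gS h w S₀' (L.e * (L.e ^ n * L.e ^ (k₀ * k))) := by
      simp only [y₁, map_mul, map_pow] at hn ⊢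
      linear_combination (L.pb f' gS h w S₀' L.e) * hn
    rw [this]
    exact L.N'_mul f' gS h w S₀' hm (IsFix.mul L L.isFix_e (IsFix.mul L (IsFix.pow L L.isFix_e _) (IsFix.pow L L.isFix_e _)))
  obtain ⟨v, hv⟩ := L.tr_mem_range hq (IsFix.mul L L.isFix_e hy₁)
  refine ⟨v, ?_, ?_⟩
  · have := L.tr'_mem_range f' gS h w S₀' hq Rng hR hY hm'
    rwa [show L.tr' f' gS h w S₀' (h' * L.pb f' gS h w S₀' (L.e * y₁)) =
        L.pb f' gS h w S₀' (L.tr (L.e * y₁)) * h' by
      simp only [tr', tr, map_mul, hh', b'_pb, map_sum, Finset.sum_mul]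
      exact Finset.sum_congr rfl fun p _ => mul_comm _ _, ← hv] at this
  · rw [hv, evaluation_appLE, L.eval_tr hy₁]
    refine (map_ne_zero _).2 ?_
    simp only [y₁, map_mul, map_pow]
    refine mul_ne_zero L.eval_e_ne_zero (mul_ne_zero (pow_ne_zero _ L.eval_e_ne_zero)
      (mul_ne_zero (pow_ne_zero _ ?_) (pow_ne_zero _ L.eval_e_ne_zero)))
    have h1 := congrArg ((fibPow f d).evaluation L.D _ L.mem) hxy₀
    rw [map_mul, map_pow, evaluation_res, evaluation_res, evaluation_res] at h1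
    rw [h1]
    exact mul_ne_zero L.eval_t₀_ne_zero (pow_ne_zero _ L.eval_e_ne_zero)

end Loc

end SymProdCmp
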