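import Groth.Agent.SymProdCmpLib.Chart
import Mathlib.RingTheory.Flat.Stability

/-!
# Invariant functions on a coloured chart
-/

set_option autoImplicit false
set_option backward.isDefEq.respectTransparency false
set_option backward.isDefEq.respectTransparency.types false
noncomputable section

universe u

open CategoryTheory CategoryTheory.Limits AlgebraicGeometry TopologicalSpace SymProd
open scoped TensorProduct

namespace SymProdCmp.Col

variable {X S : Scheme.{u}} {f : X ⟶ S} {d : ℕ} (C : Col f d)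

/-- The permutations preserving the colours. -/
def H : Subgroup (Equiv.Perm (Fin d)) where
  carrier := {σ | C.c ∘ σ = C.c}
  one_mem' := rfl
  mul_mem' {a b} ha hb := by
    change C.c ∘ (a ∘ b) = C.c
    rw [← Function.comp_assoc, ha, hb]
  inv_mem' {a} ha := by
    change C.c ∘ a.symm = C.c
    conv_lhs => rw [← (ha : C.c ∘ a = C.c)]
    rw [Function.comp_assoc, Equiv.self_comp_symm, Function.comp_id]

theorem c_symm {σ : Equiv.Perm (Fin d)} (hσ : σ ∈ C.H) (i : Fin d) : C.c (σ.symm i) = C.c i :=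
  congrFun (C.H.inv_mem hσ) i

theorem V_le_preimage {σ : Equiv.Perm (Fin d)} (hσ : σ ∈ C.H) : C.V ≤ permHom f d σ ⁻¹ᵁ C.V := by
  intro x hx
  obtain ⟨h1, h2⟩ := C.mem_V.1 hx
  refine C.mem_V.2 ⟨?_, fun i => ?_⟩
  · rw [← Scheme.Hom.comp_apply, permHom_base]; exact h1
  · rw [← Scheme.Hom.comp_apply, permHom_π, ← C.c_symm hσ i]; exact h2 _

/-- The action on the functions of the chart. -/
def act (σ : C.H) : Γ(fibPow f d, C.V) →+* Γ(fibPow f d, C.V) :=
  ((permHom f d σ.1).appLE C.V C.V (C.V_le_preimage σ.2)).hom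

theorem proj_eq (k : Fin d) (x : C.A) {j : C.J} (hj : C.c k = j)
    (e : C.V ≤ WidePullback.π (fun _ : Fin d => f) k ⁻¹ᵁ C.U j) :
    C.proj k (x (C.c k)) = ((WidePullback.π (fun _ : Fin d => f) k).appLE (C.U j) C.V e).hom (x j) := by
  subst hj; rfl

theorem act_proj (σ : C.H) (k : Fin d) (x : C.A) :
    C.act σ (C.proj k (x (C.c k))) = C.proj (σ.1.symm k) (x (C.c (σ.1.symm k))) := by
  have hj : C.c (σ.1.symm k) = C.c k := C.c_symm σ.2 k
  rw [C.proj_eq (σ.1.symm k) x hj (hj ▸ C.V_le_π _), proj_apply]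
  change ((WidePullback.π (fun _ : Fin d => f) k).appLE _ C.V (C.V_le_π k) ≫
    (permHom f d σ.1).appLE C.V C.V (C.V_le_preimage σ.2)).hom _ = _
  rw [Scheme.Hom.appLE_comp_appLE]
  simp only [permHom_π]

theorem act_θ (σ : C.H) (t : C.T) : C.act σ (C.θ t) = C.θ (SymTen.perm C.R C.A d σ.1.symm t) := by
  induction t using PiTensorProduct.induction_on with
  | smul_tprod r a =>
    rw [map_smul C.θ, map_smul (SymTen.perm C.R C.A d σ.1.symm), map_smul C.θ, SymTen.perm_tprod, Algebra.smul_def,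
      Algebra.smul_def, map_mul,
      θ_tprod, θ_tprod, map_prod]
    congr 1
    · change ((WidePullback.base (fun _ : Fin d => f)).appLE C.S₀ C.V C.V_le_base ≫
        (permHom f d σ.1).appLE C.V C.V (C.V_le_preimage σ.2)).hom r = _
      rw [Scheme.Hom.appLE_comp_appLE]
      simp only [permHom_base]
      rfl
    · refine (Finset.prod_congr rfl fun i _ => C.act_proj σ i (a i)).trans ?_
      rw [← Equiv.prod_comp σ.1]
      refine Finset.prod_congr rfl fun i _ => ?_
      exact congrArg (fun k => C.proj k (a (σ.1 i) (C.c k))) (σ.1.symm_apply_apply i)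
  | add x y hx hy => simp only [map_add, hx, hy]

theorem perm_mul (σ τ : Equiv.Perm (Fin d)) (t : C.T) :
    SymTen.perm C.R C.A d (σ * τ) t = SymTen.perm C.R C.A d σ (SymTen.perm C.R C.A d τ t) := by
  induction t using PiTensorProduct.induction_on with
  | smul_tprod r a =>
    simp only [map_smul, SymTen.perm_tprod]
    rfl
  | add x y hx hy => simp only [map_add, hx, hy]

theorem perm_ε (τ : Equiv.Perm (Fin d)) (h : Fin d → C.J) :
    SymTen.perm C.R C.A d τ (C.ε h) = C.ε (h ∘ τ.symm) := by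
  rw [ε, SymTen.perm_tprod]
  rfl

/-- The idempotent of all colourings in the orbit. -/
def E : C.T := ∑ h ∈ orbit C.c, C.ε h

theorem E_mem_TS : C.E ∈ SymTen.TS C.R C.A d := orbSum_mem_TS C.δ C.c

theorem θ_E : C.θ C.E = 1 := by
  rw [E, map_sum, Finset.sum_eq_single C.c (fun h _ hh => C.θ_ε_of_ne hh)
    (fun h => absurd (mem_orbit.2 ⟨1, rfl⟩) h), θ_ε]

theorem E_mul_eq_zero {y : C.T} (hy : y ∈ SymTen.TS C.R C.A d) (h : C.θ y = 0) : C.E * y = 0 := by
  rw [E, Finset.sum_mul]
  refine Finset.sum_eq_zero fun k hk => ?_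
  obtain ⟨σ, rfl⟩ := mem_orbit.1 hk
  have : SymTen.perm C.R C.A d σ.symm (C.ε C.c * y) = C.ε (C.c ∘ σ) * y := by
    rw [map_mul, perm_ε, Equiv.symm_symm, SymTen.perm_apply (t := y), hy σ.symm]
  rw [← this, C.ε_mul_eq_zero h, map_zero]

theorem exists_TS_lift {x : Γ(fibPow f d, C.V)} (hx : ∀ σ : C.H, C.act σ x = x) :
    ∃ y ∈ SymTen.TS C.R C.A d, C.θ y = x := by
  classical
  obtain ⟨y₀, rfl⟩ := C.θ_surjective x
  have hfix : ∀ τ ∈ C.H, SymTen.perm C.R C.A d τ (C.ε C.c * y₀) = C.ε C.c * y₀ := fun τ hτ => by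
    rw [map_mul, perm_ε, (show C.c ∘ τ.symm = C.c from C.H.inv_mem hτ), ← sub_eq_zero, ← mul_sub]
    refine C.ε_mul_eq_zero ?_
    have h := hx ⟨τ.symm, C.H.inv_mem hτ⟩
    rw [act_θ] at h
    rw [map_sub, sub_eq_zero]
    exact h
  have hex : ∀ h : Fin d → C.J, ∃ τ : Equiv.Perm (Fin d), h ∈ orbit C.c → C.c ∘ τ.symm = h := fun h => by
    by_cases hh : h ∈ orbit C.c
    · obtain ⟨σ, hσ⟩ := mem_orbit.1 hh
      exact ⟨σ.symm, fun _ => hσ⟩
    · exact ⟨1, fun h' => absurd h' hh⟩
  choose τ hτ using hex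
  refine ⟨∑ h ∈ orbit C.c, SymTen.perm C.R C.A d (τ h) (C.ε C.c * y₀), fun π => ?_, ?_⟩
  · rw [← SymTen.perm_apply, map_sum]
    refine Finset.sum_nbij' (fun h => h ∘ π.symm) (fun h => h ∘ π) (fun h hh => ?_) (fun h hh => ?_)
      (fun h _ => by funext t; simp) (fun h _ => by funext t; simp) fun h hh => ?_
    · obtain ⟨σ, rfl⟩ := mem_orbit.1 hh
      exact mem_orbit.2 ⟨σ * π.symm, rfl⟩
    · obtain ⟨σ, rfl⟩ := mem_orbit.1 hh
      exact mem_orbit.2 ⟨σ * π, rfl⟩
    · have hh' : h ∘ π.symm ∈ orbit C.c := by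
        obtain ⟨σ, rfl⟩ := mem_orbit.1 hh
        exact mem_orbit.2 ⟨σ * π.symm, rfl⟩
      have hmem : (τ (h ∘ π.symm))⁻¹ * (π * τ h) ∈ C.H := by
        change C.c ∘ ((τ (h ∘ π.symm)).symm ∘ (π ∘ τ h)) = C.c
        funext i
        have e1 := congrFun (hτ _ hh') (π (τ h i))
        have e2 := congrFun (hτ h hh) (τ h i)
        simp only [Function.comp_apply, Equiv.symm_apply_apply] at e1 e2
        change C.c ((τ (h ∘ π.symm)).symm (π (τ h i))) = C.c i
        rw [e1, ← e2]
      rw [← C.perm_mul, show π * τ h = τ (h ∘ π.symm) * ((τ (h ∘ π.symm))⁻¹ * (π * τ h)) by group, C.perm_mul,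
        hfix _ hmem]
  · have hmemc : C.c ∈ orbit C.c := mem_orbit.2 ⟨1, rfl⟩
    rw [map_sum, Finset.sum_eq_single C.c (fun h hh hne => ?_) (fun h => absurd hmemc h)]
    · rw [hfix _ (inv_inv (τ C.c) ▸ C.H.inv_mem (show (τ C.c)⁻¹ ∈ C.H from hτ _ hmemc)), map_mul, θ_ε, one_mul]
    · rw [map_mul, perm_ε, hτ h hh, map_mul, C.θ_ε_of_ne hne, zero_mul]

/-- The invariant functions of the chart. -/
def inv : Subalgebra C.R Γ(fibPow f d, C.V) where
  carrier := {x | ∀ σ : C.H, C.act σ x = x}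
  mul_mem' {a b} ha hb σ := by rw [map_mul, ha σ, hb σ]
  one_mem' σ := map_one _
  add_mem' {a b} ha hb σ := by rw [map_add, ha σ, hb σ]
  zero_mem' σ := map_zero _
  algebraMap_mem' r σ := by
    have := C.act_θ σ (algebraMap C.R C.T r)
    rw [AlgHom.commutes, AlgHom.commutes] at this
    exact this.trans (C.θ.commutes r)

theorem θ_mem_inv {y : C.T} (hy : y ∈ SymTen.TS C.R C.A d) : C.θ y ∈ C.inv := fun σ => by
  rw [act_θ, SymTen.perm_apply (t := y), hy]

/-- The invariant functions of a chart of a flat morphism form a flat module. -/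
theorem flat_inv (h : Module.Flat C.R C.A) : Module.Flat C.R C.inv := by
  haveI : Module.Flat C.R ↥(SymTen.TS C.R C.A d) := by
    have e : Subalgebra.toSubmodule (SymTen.TS C.R C.A d) = ⨅ σ : Equiv.Perm (Fin d),
        LinearMap.eqLocus (PiTensorProduct.reindex C.R (fun _ : Fin d => C.A) σ).toLinearMap LinearMap.id := by
      ext t
      simp only [Subalgebra.mem_toSubmodule, Submodule.mem_iInf]
      exact Iff.rfl
    haveI := Groth.Agent.SymTenGenLib.flat_symTensor (R := C.R) (M := C.A) (n := d)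
    exact Module.Flat.of_linearEquiv (LinearEquiv.ofEq _ _ e)
  choose y hy hθ using fun x : C.inv => C.exists_TS_lift x.2
  let r : ↥(SymTen.TS C.R C.A d) →ₗ[C.R] C.inv :=
    { toFun := fun t => ⟨C.θ t.1, C.θ_mem_inv t.2⟩
      map_add' := fun a b => Subtype.ext (map_add C.θ _ _)
      map_smul' := fun c a => Subtype.ext (map_smul C.θ _ _) }
  have key : ∀ a b : C.T, a ∈ SymTen.TS C.R C.A d → b ∈ SymTen.TS C.R C.A d → C.θ a = C.θ b → C.E * a = C.E * b :=
    fun a b ha hb hab => by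
      rw [← sub_eq_zero, ← mul_sub]
      exact C.E_mul_eq_zero (sub_mem ha hb) (by rw [map_sub, hab, sub_self])
  let i : C.inv →ₗ[C.R] ↥(SymTen.TS C.R C.A d) :=
    { toFun := fun x => ⟨C.E * y x, mul_mem C.E_mem_TS (hy x)⟩
      map_add' := fun a b => Subtype.ext <| by
        change C.E * y (a + b) = C.E * y a + C.E * y b
        rw [← mul_add]
        exact key _ _ (hy _) (add_mem (hy a) (hy b)) (by rw [map_add, hθ, hθ, hθ]; rfl)
      map_smul' := fun c a => Subtype.ext <| by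
        change C.E * y (c • a) = c • (C.E * y a)
        rw [← Algebra.mul_smul_comm c]
        exact key _ _ (hy _) (Subalgebra.smul_mem _ (hy a) c) (by rw [map_smul, hθ, hθ]; rfl) }
  exact Module.Flat.of_retract i r (LinearMap.ext fun x => Subtype.ext (by
    change C.θ (C.E * y x) = x.1
    rw [map_mul, θ_E, one_mul, hθ]))

end SymProdCmp.Col
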