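import Groth.Agent.SymProdCmpLib.Invariant
import Groth.Agent.QuotLib.Exists

/-!
# Local data of a symmetric product at a point, and the transfer to invariant functions
-/

set_option autoImplicit false
set_option backward.isDefEq.respectTransparency false
set_option backward.isDefEq.respectTransparency.types false
noncomputable section

universe u

open CategoryTheory CategoryTheory.Limits AlgebraicGeometry TopologicalSpace SymProd
open scoped TensorProduct

namespace SymProdCmp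

section General

variable {Z : Scheme.{u}}

/-- Restriction of sections. -/
abbrev resTo {U D : Z.Opens} (h : D ≤ U) : Γ(Z, U) →+* Γ(Z, D) := (Z.presheaf.map (homOfLE h).op).hom

/-- Pullback of sections on a stable open. -/
abbrev pullSelf (g : Z ⟶ Z) {U : Z.Opens} (h : U ≤ g ⁻¹ᵁ U) : Γ(Z, U) →+* Γ(Z, U) := (g.appLE U U h).hom

theorem pullSelf_res (g : Z ⟶ Z) {U D : Z.Opens} (hU : U ≤ g ⁻¹ᵁ U) (hD : D ≤ g ⁻¹ᵁ D) (h : D ≤ U) (s : Γ(Z, U)) :
    pullSelf g hD (resTo h s) = resTo h (pullSelf g hU s) := by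
  change (Z.presheaf.map (homOfLE h).op ≫ g.appLE D D hD).hom s = (g.appLE U U hU ≫ Z.presheaf.map (homOfLE h).op).hom s
  rw [Scheme.Hom.map_appLE, Scheme.Hom.appLE_map]

theorem le_preimage_basicOpen (g : Z ⟶ Z) {U : Z.Opens} (hU : U ≤ g ⁻¹ᵁ U) {t : Γ(Z, U)}
    (ht : pullSelf g hU t = t) : Z.basicOpen t ≤ g ⁻¹ᵁ Z.basicOpen t := by
  conv_lhs => rw [← ht]
  rw [Scheme.basicOpen_appLE]
  exact inf_le_right

theorem basicOpen_pullSelf (g : Z ⟶ Z) {U : Z.Opens} (hU : U ≤ g ⁻¹ᵁ U) (t : Γ(Z, U)) :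
    Z.basicOpen (pullSelf g hU t) = U ⊓ g ⁻¹ᵁ Z.basicOpen t := Scheme.basicOpen_appLE _ _ _ _ _

theorem basicOpen_prod {U : Z.Opens} {ι : Type*} (s : Finset ι) (t : ι → Γ(Z, U)) (x : Z) (hxU : x ∈ U) :
    x ∈ Z.basicOpen (∏ i ∈ s, t i) ↔ ∀ i ∈ s, x ∈ Z.basicOpen (t i) := by
  simp only [← Scheme.evaluation_ne_zero_iff_mem_basicOpen (U := U) Z x hxU, map_prod, Finset.prod_ne_zero_iff]

/-- A fixed fraction has a fixed numerator. -/
theorem exists_fixed_lift {ι : Type*} [Finite ι] (g : ι → (Z ⟶ Z)) {U D : Z.Opens} (hU : IsAffineOpen U)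
    (hgU : ∀ i, U ≤ g i ⁻¹ᵁ U) (hgD : ∀ i, D ≤ g i ⁻¹ᵁ D) {t : Γ(Z, U)} (hD : D = Z.basicOpen t) (hDU : D ≤ U)
    (ht : ∀ i, pullSelf (g i) (hgU i) t = t) {x : Γ(Z, D)} (hx : ∀ i, pullSelf (g i) (hgD i) x = x) :
    ∃ (k : ℕ) (y : Γ(Z, U)), (∀ i, pullSelf (g i) (hgU i) y = y) ∧ resTo hDU y = x * resTo hDU t ^ k := by
  subst hD
  haveI := hU.isLocalization_basicOpen t
  obtain ⟨k, a, ha⟩ := IsLocalization.Away.surj t x
  have hfix : ∀ i, ∃ m : ℕ, t ^ m * pullSelf (g i) (hgU i) a = t ^ m * a := fun i => by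
    have h : resTo hDU (pullSelf (g i) (hgU i) a) = resTo hDU a := by
      rw [← pullSelf_res _ (hgU i) (hgD i), show resTo hDU a = x * resTo hDU t ^ k from ha.symm, map_mul, map_pow,
        hx, pullSelf_res _ (hgU i) (hgD i), ht]
    obtain ⟨⟨_, m, rfl⟩, hm⟩ := (IsLocalization.eq_iff_exists (Submonoid.powers t) Γ(Z, Z.basicOpen t)).1 h
    exact ⟨m, hm⟩
  choose m hm using hfix
  haveI := Fintype.ofFinite ι
  let M := Finset.univ.sum m
  refine ⟨k + M, t ^ M * a, fun i => ?_, ?_⟩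
  · obtain ⟨j, hj⟩ : ∃ j, M = j + m i :=
      ⟨M - m i, (Nat.sub_add_cancel (Finset.single_le_sum (fun i _ => Nat.zero_le (m i)) (Finset.mem_univ i))).symm⟩
    rw [map_mul, map_pow, ht, hj, pow_add, mul_assoc, mul_assoc, hm i]
  · rw [map_mul, map_pow, show resTo hDU a = x * resTo hDU t ^ k from ha.symm]
    ring

/-- A finite order map has no proper specializations inside an orbit. -/
theorem eq_of_specializes {T : Type*} [TopologicalSpace T] [T0Space T] (φ : T → T) (hφ : Continuous φ) {n : ℕ}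
    (hn : 0 < n) (hper : ∀ t, φ^[n] t = t) {x : T} (h : φ x ⤳ x) : φ x = x := by
  obtain ⟨n, rfl⟩ := Nat.exists_eq_add_of_le hn
  have key : ∀ j : ℕ, φ^[j + 1] x ⤳ φ x := fun j => by
    induction j with
    | zero => exact specializes_rfl
    | succ j ih =>
      refine Specializes.trans ?_ ih
      rw [Function.iterate_succ_apply]
      exact h.map (hφ.iterate (j + 1))
  have h2 := key n
  rw [add_comm n 1, hper] at h2
  exact (h.antisymm h2).eq

end General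

variable {X S Y : Scheme.{u}}

/-- Local data at a point of a fibre power over an affine open of a symmetric product. -/
structure Loc (f : X ⟶ S) (d : ℕ) (q : fibPow f d ⟶ Y) (z : fibPow f d) where
  C : Col f d
  VY : Y.Opens
  hVY : IsAffineOpen VY
  hW : IsAffineOpen (q ⁻¹ᵁ VY)
  hinv : ∀ σ : Equiv.Perm (Fin d), permHom f d σ ≫ q = q
  e : Γ(fibPow f d, q ⁻¹ᵁ VY)
  D : (fibPow f d).Opens
  D_eq : D = (fibPow f d).basicOpen e
  t₀ : Γ(fibPow f d, C.V)
  D_eq' : D = (fibPow f d).basicOpen t₀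
  ht₀ : t₀ ∈ C.inv
  he : ∀ σ ∈ C.H, ∀ h, pullSelf (permHom f d σ) h e = e
  mem : z ∈ D
  sep : ∀ σ : Equiv.Perm (Fin d), permHom f d σ z ∈ D → σ ∈ C.H

theorem exists_loc (f : X ⟶ S) (d : ℕ) (q : fibPow f d ⟶ Y) (g : Y ⟶ S) (hq : IsSymProd f d q g)
    (z : fibPow f d) (S₀ : S.Opens) (hS₀ : IsAffineOpen S₀) (VY : Y.Opens) (hVY : IsAffineOpen VY)
    (hle : VY ≤ g ⁻¹ᵁ S₀) (hz : q z ∈ VY) : ∃ L : Loc f d q z, L.VY = VY ∧ L.C.S₀ = S₀ := by
  classical
  haveI := hq.isQuot.affine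
  have hW : IsAffineOpen (q ⁻¹ᵁ VY) := hVY.preimage q
  have hinv : ∀ σ : Equiv.Perm (Fin d), permHom f d σ ≫ q = q := fun σ => hq.isQuot.inv (ULift.up σ)
  have hstab : ∀ σ : Equiv.Perm (Fin d), q ⁻¹ᵁ VY ≤ permHom f d σ ⁻¹ᵁ (q ⁻¹ᵁ VY) := fun σ => by
    rw [← Scheme.Hom.comp_preimage, hinv]
  have hb : WidePullback.base (fun _ : Fin d => f) z ∈ S₀ := by
    rw [← hq.over, Scheme.Hom.comp_apply]; exact hle hz
  let π := fun i => WidePullback.π (fun _ : Fin d => f) i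
  have hπ : ∀ i, f (π i z) ∈ S₀ := fun i => by
    rw [← Scheme.Hom.comp_apply, WidePullback.π_arrow]; exact hb
  have hU : ∀ j : Set.range (fun i => π i z), ∃ U : X.Opens, IsAffineOpen U ∧ j.1 ∈ U ∧ U ≤ f ⁻¹ᵁ S₀ := fun j =>
    QuotLib.exists_affine (show j.1 ∈ f ⁻¹ᵁ S₀ by obtain ⟨_, i, rfl⟩ := j; exact hπ i)
  choose U hUa hUm hUle using hU
  haveI : Fintype (Set.range fun i => π i z) := Set.fintypeRange _
  let C : Col f d := { S₀ := S₀, hS₀ := hS₀, J := Set.range (fun i => π i z), c := fun i => ⟨π i z, i, rfl⟩,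
                       U := U, hU := hUa, hle := hUle }
  have hH : ∀ σ : Equiv.Perm (Fin d), permHom f d σ z = z → σ ∈ C.H := fun σ h => by
    refine funext fun i => Subtype.ext ?_
    change π (σ i) z = π i z
    have := congrArg (π (σ i)) h
    rw [← Scheme.Hom.comp_apply, permHom_π, Equiv.symm_apply_apply] at this
    exact this.symm
  let ξ : Equiv.Perm (Fin d) → fibPow f d := fun σ => permHom f d σ z
  have hξ : ∀ σ τ, ξ (σ * τ) = permHom f d σ (ξ τ) := fun σ τ => by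
    change _ = permHom f d σ (permHom f d τ z)
    rw [← Scheme.Hom.comp_apply, ← permHom_mul]
  have hzV : z ∈ C.V := C.mem_V.2 ⟨hb, fun i => hUm _⟩
  have hξV : ∀ τ ∈ C.H, ξ τ ∈ C.V := fun τ hτ => C.V_le_preimage hτ hzV
  have hξW : ∀ τ, ξ τ ∈ q ⁻¹ᵁ VY := fun τ => hstab τ hz
  let bad : Set (fibPow f d) := ⋃ σ ∈ ((↑C.H : Set (Equiv.Perm (Fin d)))ᶜ), closure {ξ σ}
  have hbad : IsClosed bad := (Set.toFinite _).isClosed_biUnion fun _ _ => isClosed_closure
  have hgood : ∀ τ ∈ C.H, ξ τ ∉ bad := fun τ hτ h => by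
    obtain ⟨σ, hσ, hmem⟩ := Set.mem_iUnion₂.1 h
    have h1 : ξ σ ⤳ ξ τ := specializes_iff_mem_closure.2 hmem
    have h2 : ξ (τ⁻¹ * σ) ⤳ z := by
      have h3 := h1.map (permHom f d τ⁻¹).continuous
      rw [← hξ, ← hξ, inv_mul_cancel] at h3
      change _ ⤳ permHom f d 1 z at h3
      rwa [permHom_one] at h3
    refine hσ ?_
    have h4 := hH (τ⁻¹ * σ) (eq_of_specializes _ (permHom f d (τ⁻¹ * σ)).continuous (orderOf_pos (τ⁻¹ * σ))
      (fun x => by
        have hit : ∀ (m : ℕ) (x : fibPow f d), (permHom f d (τ⁻¹ * σ))^[m] x = permHom f d ((τ⁻¹ * σ) ^ m) x := fun m => by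
          induction m with
          | zero => intro x; rw [pow_zero, permHom_one]; rfl
          | succ m ih => intro x; rw [Function.iterate_succ_apply, ih, pow_succ]; exact (congrArg (fun k : fibPow f d ⟶ fibPow f d => k x) (permHom_mul f d _ _)).symm
        rw [hit, pow_orderOf_eq_one, permHom_one]
        rfl) h2)
    simpa using C.H.mul_mem hτ h4
  let W₁ : (fibPow f d).Opens := (C.V ⊓ q ⁻¹ᵁ VY) ⊓ ⟨badᶜ, hbad.isOpen_compl⟩
  let Hz : Set (fibPow f d) := ξ '' (↑C.H : Set (Equiv.Perm (Fin d)))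
  have hzz : ∀ σ : C.H, ξ σ.1 ∈ Hz := fun σ => ⟨σ.1, σ.2, rfl⟩
  obtain ⟨t, htle, htz⟩ := QuotLib.exists_basicOpen_of_finite C.isAffineOpen_V
    (show W₁ ≤ C.V from inf_le_left.trans inf_le_left) Hz (Set.toFinite _) (by
      rintro _ ⟨τ, hτ, rfl⟩
      exact ⟨⟨hξV τ hτ, hξW τ⟩, hgood τ hτ⟩)
  haveI : Fintype C.H := Fintype.ofFinite _
  let g : C.H → (fibPow f d ⟶ fibPow f d) := fun σ => permHom f d σ.1
  have hgV : ∀ σ : C.H, C.V ≤ g σ ⁻¹ᵁ C.V := fun σ => C.V_le_preimage σ.2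
  have hprod : ∀ (U : (fibPow f d).Opens) (hgU : ∀ σ : C.H, U ≤ g σ ⁻¹ᵁ U) (s : Γ(fibPow f d, U)) (π : C.H),
      pullSelf (g π) (hgU π) (∏ σ : C.H, pullSelf (g σ) (hgU σ) s) = ∏ σ : C.H, pullSelf (g σ) (hgU σ) s := by
    intro U hgU s π
    rw [map_prod]
    refine Fintype.prod_equiv (Equiv.mulRight π) _ _ fun σ => ?_
    change ((g σ).appLE U U (hgU σ) ≫ (g π).appLE U U (hgU π)).hom s = _
    rw [Scheme.Hom.appLE_comp_appLE]
    simp only [g, ← permHom_mul]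
    rfl
  have hmem : ∀ (U : (fibPow f d).Opens) (hgU : ∀ σ : C.H, U ≤ g σ ⁻¹ᵁ U) (s : Γ(fibPow f d, U))
      (W : (fibPow f d).Opens), (fibPow f d).basicOpen s ≤ W → (∀ τ : C.H, ξ τ.1 ∈ (fibPow f d).basicOpen s) →
      (fibPow f d).basicOpen (∏ σ : C.H, pullSelf (g σ) (hgU σ) s) ≤ W ∧
        ∀ τ : C.H, ξ τ.1 ∈ (fibPow f d).basicOpen (∏ σ : C.H, pullSelf (g σ) (hgU σ) s) := by
    intro U hgU s W hsW hs
    refine ⟨fun x hx => ?_, fun τ => ?_⟩
    · have hxU := (fibPow f d).basicOpen_le _ hx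
      have := (basicOpen_prod _ _ x hxU).1 hx 1 (Finset.mem_univ _)
      rw [basicOpen_pullSelf] at this
      refine hsW ?_
      have h1 : g 1 x ∈ (fibPow f d).basicOpen s := this.2
      simp only [g, OneMemClass.coe_one, permHom_one] at h1
      exact h1
    · refine (basicOpen_prod _ _ _ ((fibPow f d).basicOpen_le _ (hs τ))).2 fun σ _ => ?_
      rw [basicOpen_pullSelf]
      refine ⟨(fibPow f d).basicOpen_le _ (hs τ), ?_⟩
      change permHom f d σ.1 (ξ τ.1) ∈ (fibPow f d).basicOpen s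
      rw [← hξ]
      exact hs (σ * τ)
  let t' := ∏ σ : C.H, pullSelf (g σ) (hgV σ) t
  have ht' : ∀ π : C.H, pullSelf (g π) (hgV π) t' = t' := hprod _ hgV t
  obtain ⟨ht'le, ht'z⟩ := hmem _ hgV t W₁ htle fun τ => htz (hzz τ)
  obtain ⟨e₀, he₀le, he₀z⟩ := QuotLib.exists_basicOpen_of_finite hW
    (show (fibPow f d).basicOpen t' ≤ q ⁻¹ᵁ VY from ht'le.trans (inf_le_left.trans inf_le_right)) Hz (Set.toFinite _) (by
      rintro _ ⟨τ, hτ, rfl⟩; exact ht'z ⟨τ, hτ⟩)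
  let e' := ∏ σ : C.H, pullSelf (g σ) (hstab σ.1) e₀
  have he' : ∀ π : C.H, pullSelf (g π) (hstab π.1) e' = e' := hprod _ _ e₀
  obtain ⟨he'le, he'z⟩ := hmem _ (fun σ => hstab σ.1) e₀ _ he₀le fun τ => he₀z (hzz τ)
  have hDt : (fibPow f d).basicOpen t' ≤ q ⁻¹ᵁ VY := ht'le.trans (inf_le_left.trans inf_le_right)
  have hD't : ∀ π : C.H, (fibPow f d).basicOpen t' ≤ g π ⁻¹ᵁ (fibPow f d).basicOpen t' :=
    fun π => le_preimage_basicOpen _ (hgV π) (ht' π)
  obtain ⟨k, w, hw, hwk⟩ := exists_fixed_lift g C.isAffineOpen_V hgV hD't rfl ((fibPow f d).basicOpen_le _) ht'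
    (x := resTo hDt e') (fun π => by rw [pullSelf_res _ (hstab π.1), he' π])
  have hDe : (fibPow f d).basicOpen e' = (fibPow f d).basicOpen (w * t') := by
    have h1 := congrArg (fibPow f d).basicOpen hwk
    rw [Scheme.basicOpen_res, Scheme.basicOpen_mul, Scheme.basicOpen_res] at h1
    have hu : (fibPow f d).basicOpen (resTo ((fibPow f d).basicOpen_le t') t' ^ k) = (fibPow f d).basicOpen t' := by
      refine ((fibPow f d).basicOpen_le _).antisymm fun x hx => ?_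
      rw [← Scheme.evaluation_ne_zero_iff_mem_basicOpen (hx := hx), map_pow]
      refine pow_ne_zero _ ?_
      rw [Scheme.evaluation_ne_zero_iff_mem_basicOpen]
      rw [Scheme.basicOpen_res]
      exact ⟨hx, hx⟩
    rw [hu] at h1
    rw [Scheme.basicOpen_mul, inf_comm, h1]
    exact ((inf_eq_left.2 inf_le_left).trans (inf_eq_right.2 he'le)).symm
  refine ⟨{ C := C, VY := VY, hVY := hVY, hW := hW, hinv := hinv, e := e', D := (fibPow f d).basicOpen e',
            D_eq := rfl, t₀ := w * t', D_eq' := hDe, ht₀ := fun σ => ?_, he := fun σ hσ _ => he' ⟨σ, hσ⟩,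
            mem := ?_, sep := fun σ hσ => ?_ }, rfl, rfl⟩
  · rw [map_mul]
    exact congrArg₂ (· * ·) (hw σ) (ht' σ)
  · have := he'z 1
    change permHom f d 1 z ∈ _ at this
    rwa [permHom_one] at this
  · by_contra hnot
    exact (ht'le (he'le hσ)).2 (Set.mem_biUnion hnot (subset_closure rfl))

end SymProdCmp
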