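import Groth.Agent.SymTenGenLib.FlatTS
import Groth.Prelude.Def_SymTen

/-!
# Symmetric tensors of flat algebras are generated by orbit sums
-/

set_option autoImplicit false

universe u

open scoped TensorProduct
open PiTensorProduct Groth.Agent.SymTenGenLib

namespace SymProdCmp

variable {R : Type u} [CommRing R] {n : ℕ}

/-- The algebra map out of a tensor power given by a family of algebra maps. -/
noncomputable def piLift {A C : Type u} [CommRing A] [Algebra R A] [CommRing C] [Algebra R C]
    (g : Fin n → A →ₐ[R] C) : (⨂[R] _ : Fin n, A) →ₐ[R] C :=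
  PiTensorProduct.liftAlgHom ((MultilinearMap.mkPiAlgebra R (Fin n) C).compLinearMap fun i => (g i).toLinearMap)
    (by simp) (fun x y => by simp [Finset.prod_mul_distrib])

@[simp] theorem piLift_tprod {A C : Type u} [CommRing A] [Algebra R A] [CommRing C] [Algebra R C]
    (g : Fin n → A →ₐ[R] C) (a : Fin n → A) : piLift g (tprod R a) = ∏ i, g i (a i) := by
  simp [piLift]

theorem tprod_eq_prod_single {A : Type u} [CommRing A] [Algebra R A] (a : Fin n → A) :
    tprod R a = ∏ i, PiTensorProduct.singleAlgHom (R := R) (A := fun _ : Fin n => A) i (a i) := by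
  have h : ∀ i, PiTensorProduct.singleAlgHom (R := R) (A := fun _ : Fin n => A) i (a i) =
      PiTensorProduct.tprod R (Pi.mulSingle i (a i)) := fun i => rfl
  rw [Finset.prod_congr rfl fun i _ => h i, ← tprod_prod]
  exact congrArg _ (Finset.univ_prod_mulSingle a).symm

theorem hom_ext_tprod {A C : Type u} [CommRing A] [Algebra R A] [CommRing C] [Algebra R C]
    {f g : (⨂[R] _ : Fin n, A) →ₐ[R] C} (h : ∀ a, f (tprod R a) = g (tprod R a)) : f = g :=
  AlgHom.toLinearMap_injective (PiTensorProduct.ext (MultilinearMap.ext h))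

section Orbit

variable {α : Type u}

/-- The orbit of a coordinate function. -/
noncomputable def orbit (g : Fin n → α) : Finset (Fin n → α) :=
  haveI := Classical.decEq α
  Finset.univ.image fun σ : Equiv.Perm (Fin n) => g ∘ σ

theorem mem_orbit {g h : Fin n → α} : h ∈ orbit g ↔ ∃ σ : Equiv.Perm (Fin n), g ∘ σ = h := by
  classical
  simp [orbit]

theorem orbit_comp (g : Fin n → α) (σ : Equiv.Perm (Fin n)) : orbit (g ∘ σ) = orbit g := by
  ext h
  simp only [mem_orbit]
  exact ⟨fun ⟨τ, hτ⟩ => ⟨σ * τ, hτ⟩, fun ⟨τ, hτ⟩ => ⟨σ⁻¹ * τ, by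
    rw [← hτ]; funext t; simp⟩⟩

theorem orbit_eq_of_mem {g h : Fin n → α} (hh : h ∈ orbit g) : orbit h = orbit g := by
  obtain ⟨σ, rfl⟩ := mem_orbit.1 hh
  exact orbit_comp g σ

/-- The orbit sum of a monomial. -/
noncomputable def orbSum (R : Type u) [CommRing R] {A : Type u} [CommRing A] [Algebra R A] (v : α → A)
    (g : Fin n → α) : ⨂[R] _ : Fin n, A :=
  ∑ h ∈ orbit g, tprod R (v ∘ h)

theorem orbSum_mem_TS {A : Type u} [CommRing A] [Algebra R A] (v : α → A) (g : Fin n → α) :
    orbSum R v g ∈ SymTen.TS R A n := fun σ => by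
  classical
  rw [orbSum, map_sum]
  refine Finset.sum_nbij' (fun h => h ∘ σ.symm) (fun h => h ∘ σ) (fun h hh => ?_) (fun h hh => ?_)
    (fun h _ => by funext t; simp) (fun h _ => by funext t; simp) fun h _ => ?_
  · obtain ⟨τ, rfl⟩ := mem_orbit.1 hh
    exact mem_orbit.2 ⟨τ * σ.symm, rfl⟩
  · obtain ⟨τ, rfl⟩ := mem_orbit.1 hh
    exact mem_orbit.2 ⟨τ * σ, rfl⟩
  · rw [reindex_tprod]
    rfl

end Orbit

/-- A symmetric tensor of a free module is a combination of orbit sums. -/
theorem free_symmetric_mem {α : Type u} {M : Type u} [AddCommGroup M] [Module R M]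
    (L : (⨂[R] _ : Fin n, (α →₀ R)) →ₗ[R] M) (N : Submodule R M)
    (hN : ∀ g : Fin n → α, ∑ h ∈ orbit g, L (tprod R fun i => Finsupp.single (h i) 1) ∈ N)
    (s : ⨂[R] _ : Fin n, (α →₀ R)) (hs : ∀ σ : Equiv.Perm (Fin n), reindex R (fun _ => (α →₀ R)) σ s = s) :
    L s ∈ N := by
  classical
  let b := Basis.piTensorProduct (R := R) (fun _ : Fin n => Finsupp.basisSingleOne (ι := α) (R := R))
  have hrepr : ∀ (σ : Equiv.Perm (Fin n)) (z : ⨂[R] _ : Fin n, (α →₀ R)) (g : Fin n → α),
      b.repr (reindex R (fun _ => (α →₀ R)) σ z) g = b.repr z (g ∘ σ) := by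
    intro σ z g
    induction z using PiTensorProduct.induction_on with
    | smul_tprod c y =>
      rw [map_smul, map_smul, map_smul, reindex_tprod, Finsupp.smul_apply, Finsupp.smul_apply,
        Basis.piTensorProduct_repr_tprod_apply, Basis.piTensorProduct_repr_tprod_apply]
      congr 1
      exact (Equiv.prod_comp σ _).symm.trans (by simp)
    | add x y hx hy => simp only [map_add, Finsupp.add_apply, hx, hy]
  have hinv : ∀ g (σ : Equiv.Perm (Fin n)), b.repr s (g ∘ σ) = b.repr s g := fun g σ => by
    rw [← hrepr σ s g, hs σ]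
  have hLs : L s = ∑ g ∈ (b.repr s).support, b.repr s g • L (b g) := by
    conv_lhs => rw [← b.linearCombination_repr s]
    rw [Finsupp.linearCombination_apply, Finsupp.sum, map_sum]
    exact Finset.sum_congr rfl fun g _ => map_smul _ _ _
  rw [hLs, ← Finset.sum_fiberwise_of_maps_to (g := orbit) (t := (b.repr s).support.image orbit)
    (fun g hg => Finset.mem_image_of_mem _ hg)]
  refine Submodule.sum_mem _ fun o ho => ?_
  obtain ⟨g, hg, rfl⟩ := Finset.mem_image.1 ho
  have hfilter : (b.repr s).support.filter (fun h => orbit h = orbit g) = orbit g := by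
    ext h
    simp only [Finset.mem_filter, Finsupp.mem_support_iff]
    refine ⟨fun ⟨_, h2⟩ => h2 ▸ mem_orbit.2 ⟨1, rfl⟩, fun hh => ⟨?_, orbit_eq_of_mem hh⟩⟩
    obtain ⟨σ, rfl⟩ := mem_orbit.1 hh
    rw [hinv]
    exact Finsupp.mem_support_iff.1 hg
  rw [hfilter, Finset.sum_congr rfl fun h hh => show b.repr s h • L (b h) = b.repr s g • L (b h) by
    obtain ⟨σ, rfl⟩ := mem_orbit.1 hh
    rw [hinv], ← Finset.smul_sum]
  refine N.smul_mem _ ?_
  convert hN g using 2 with h _
  rw [Basis.piTensorProduct_apply]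
  rfl

/-- Symmetric tensors of a flat algebra spanned by the image of another algebra are spanned by the images of
symmetric tensors. -/
theorem mem_span_image_TS {R' : Type u} [CommRing R'] {A A' : Type u} [CommRing A] [Algebra R A] [CommRing A']
    [Algebra R' A'] [Module.Flat R' A'] (φ : A → A') (hspan : Submodule.span R' (Set.range φ) = ⊤)
    (Φ : (⨂[R] _ : Fin n, A) →+ ⨂[R'] _ : Fin n, A') (hΦ : ∀ a, Φ (tprod R a) = tprod R' (φ ∘ a))
    (t : ⨂[R'] _ : Fin n, A') (ht : t ∈ SymTen.TS R' A' n) :
    t ∈ Submodule.span R' (Φ '' (SymTen.TS R A n : Set (⨂[R] _ : Fin n, A))) := by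
  classical
  let p := Finsupp.linearCombination R' φ
  have hp : Function.Surjective p := by
    rw [← LinearMap.range_eq_top, Finsupp.range_linearCombination, hspan]
  obtain ⟨s, hs, rfl⟩ := exists_lift_surjective p hp t ht
  refine free_symmetric_mem (PiTensorProduct.map fun _ => p) _ (fun g => Submodule.subset_span ?_) s hs
  refine ⟨orbSum R id g, orbSum_mem_TS id g, ?_⟩
  rw [orbSum, map_sum]
  refine Finset.sum_congr rfl fun h _ => ?_
  rw [hΦ, map_tprod]
  congr 1
  funext i
  simp [p]

/-- The value of a symmetric tensor at a field valued point lies in the field generated by the base and the values of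
orbit sums. -/
theorem apply_mem_subfield {R' : Type u} [CommRing R'] {A A' : Type u} [CommRing A] [Algebra R A] [CommRing A']
    [Algebra R' A'] {K : Type u} [Field K] [Algebra R' K] (φ : A → A')
    (hspan : Submodule.span R' (Set.range φ) = ⊤) (χ : (⨂[R'] _ : Fin n, A') →ₐ[R'] K) (E : Subfield K)
    (hR : ∀ r : R', algebraMap R' K r ∈ E)
    (hTS : ∀ g : Fin n → A, χ (orbSum R' φ g) ∈ E)
    (t : ⨂[R'] _ : Fin n, A') (ht : t ∈ SymTen.TS R' A' n) : χ t ∈ E := by
  classical
  haveI : (RingHom.ker (algebraMap R' K)).IsPrime := RingHom.ker_isPrime _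
  let k := (RingHom.ker (algebraMap R' K)).ResidueField
  let ψ : (RingHom.ker (algebraMap R' K)).ResidueField →ₐ[R'] K :=
    Ideal.ResidueField.liftₐ _ (Algebra.ofId R' K) le_rfl (fun x hx => (IsUnit.mk0 _ fun h => hx h))
  letI : Algebra k K := ψ.toRingHom.toAlgebra
  haveI : IsScalarTower R' k K := IsScalarTower.of_algebraMap_eq fun r => (ψ.commutes r).symm
  have hk : ∀ x : k, algebraMap k K x ∈ E := fun x => by
    obtain ⟨a, b, -, rfl⟩ := IsFractionRing.div_surjective (A := R' ⧸ RingHom.ker (algebraMap R' K)) x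
    obtain ⟨a, rfl⟩ := Ideal.Quotient.mk_surjective a
    obtain ⟨b, rfl⟩ := Ideal.Quotient.mk_surjective b
    have e : ∀ r : R', algebraMap k K (algebraMap (R' ⧸ RingHom.ker (algebraMap R' K)) k (Ideal.Quotient.mk _ r)) =
        algebraMap R' K r := fun r => (IsScalarTower.algebraMap_apply R' k K r).symm.trans rfl
    rw [map_div₀, e, e]
    exact div_mem (hR a) (hR b)
  let A'' := k ⊗[R'] A'
  let g : Fin n → A'' →ₐ[k] K := fun i => Algebra.TensorProduct.lift (Algebra.ofId k K)
    (χ.comp (PiTensorProduct.singleAlgHom (R := R') (A := fun _ : Fin n => A') i)) (fun _ _ => Commute.all _ _)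
  let Ψ : (⨂[R'] _ : Fin n, A') →ₐ[R'] ⨂[k] _ : Fin n, A'' :=
    piLift fun i => ((PiTensorProduct.singleAlgHom (R := k) (A := fun _ : Fin n => A'') i).restrictScalars R').comp
      Algebra.TensorProduct.includeRight
  have hΨ : ∀ a, Ψ (tprod R' a) = tprod k fun i => (1 : k) ⊗ₜ[R'] a i := fun a => by
    rw [piLift_tprod, tprod_eq_prod_single]
    rfl
  have hχ : ∀ x, piLift g (Ψ x) = χ x := fun x => by
    refine DFunLike.congr_fun (hom_ext_tprod (f := ((piLift g).restrictScalars R').comp Ψ) fun a => ?_) x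
    show piLift g (Ψ (tprod R' a)) = χ (tprod R' a)
    rw [hΨ, piLift_tprod, tprod_eq_prod_single a, map_prod]
    refine Finset.prod_congr rfl fun i _ => ?_
    exact (Algebra.TensorProduct.lift_tmul _ _ _ _ _).trans ((congrArg (· * _) (map_one _)).trans (one_mul _))
  have hsym : Ψ t ∈ SymTen.TS k A'' n := fun σ => by
    have e : ∀ x, reindex k (fun _ : Fin n => A'') σ (Ψ x) = Ψ (reindex R' (fun _ : Fin n => A') σ x) := fun x => by
      induction x using PiTensorProduct.induction_on with
      | smul_tprod c y =>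
        have e1 : Ψ (c • tprod R' y) = c • tprod k fun i => (1 : k) ⊗ₜ[R'] y i := by rw [map_smul, hΨ]
        have e2 : reindex R' (fun _ : Fin n => A') σ (c • tprod R' y) = c • tprod R' fun i => y (σ.symm i) := by
          rw [map_smul, reindex_tprod]
        rw [e1, e2, map_smul Ψ, hΨ, ← reindex_tprod (R := k) σ fun i => (1 : k) ⊗ₜ[R'] y i]
        exact (reindex k (fun _ : Fin n => A'') σ).toLinearMap.map_smul_of_tower c _
      | add x y hx hy => simp only [map_add, hx, hy]
    rw [e, ht σ]
  have hspan' : Submodule.span k (Set.range fun a => (1 : k) ⊗ₜ[R'] φ a) = ⊤ := by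
    rw [eq_top_iff]
    rintro x -
    induction x using TensorProduct.induction_on with
    | zero => exact zero_mem _
    | tmul c y =>
      rw [show c ⊗ₜ[R'] y = c • ((1 : k) ⊗ₜ[R'] y) by rw [TensorProduct.smul_tmul', smul_eq_mul, mul_one]]
      refine Submodule.smul_mem _ _ ?_
      have hy : y ∈ Submodule.span R' (Set.range φ) := hspan ▸ Submodule.mem_top
      induction hy using Submodule.span_induction with
      | mem z hz => obtain ⟨a, rfl⟩ := hz; exact Submodule.subset_span ⟨a, rfl⟩
      | zero => rw [TensorProduct.tmul_zero]; exact zero_mem _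
      | add z w _ _ hz hw => rw [TensorProduct.tmul_add]; exact add_mem hz hw
      | smul r z _ hz => rw [TensorProduct.tmul_smul]; exact Submodule.smul_of_tower_mem _ r hz
    | add x y hx hy => exact add_mem hx hy
  let p := Finsupp.linearCombination k fun a => (1 : k) ⊗ₜ[R'] φ a
  have hp : Function.Surjective p := by
    rw [← LinearMap.range_eq_top, Finsupp.range_linearCombination, hspan']
  obtain ⟨s, hs, hst⟩ := exists_lift_surjective p hp (Ψ t) hsym
  let E' : Submodule k K :=
    { carrier := E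
      add_mem' := fun ha hb => add_mem ha hb
      zero_mem' := zero_mem E
      smul_mem' := fun c x hx => by
        rw [Algebra.smul_def]
        exact mul_mem (hk c) hx }
  rw [← hχ t, ← hst]
  refine free_symmetric_mem ((piLift g).toLinearMap ∘ₗ PiTensorProduct.map fun _ => p) E' (fun h₀ => ?_) s hs
  have := hTS h₀
  rw [orbSum, map_sum] at this
  refine (congrArg (· ∈ E) ?_).mp this
  refine Finset.sum_congr rfl fun h _ => ?_
  rw [← hχ (tprod R' (φ ∘ h)), hΨ]
  show piLift g (tprod k fun i => (1 : k) ⊗ₜ[R'] φ (h i)) = piLift g (PiTensorProduct.map (fun _ => p) _)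
  rw [map_tprod]
  simp [p]

end SymProdCmp
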