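import Groth.Agent.SymProdCmpLib.Transfer
import Mathlib.AlgebraicGeometry.PullbackCarrier
import Mathlib.AlgebraicGeometry.Morphisms.ClosedImmersion
import Mathlib.AlgebraicGeometry.Morphisms.Flat

/-!
# Charts of a comparison morphism
-/

set_option autoImplicit false
set_option backward.isDefEq.respectTransparency false
set_option backward.isDefEq.respectTransparency.types false
noncomputable section

universe u

open CategoryTheory CategoryTheory.Limits AlgebraicGeometry TopologicalSpace SymProd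
open scoped TensorProduct

namespace SymProdCmp

variable {X S X' S' : Scheme.{u}}

/-- The ring map of a square restricted to affine opens. -/
theorem isAffineOpen_inter_and_span (f : X ⟶ S) (f' : X' ⟶ S') (gS : S' ⟶ S) (h : X' ⟶ X) (w : h ≫ f = f' ≫ gS)
    [IsClosedImmersion (pullback.lift h f' w)] {U : X.Opens} (hU : IsAffineOpen U) {S₀ : S.Opens}
    (hS₀ : IsAffineOpen S₀) (hle : U ≤ f ⁻¹ᵁ S₀) {S₀' : S'.Opens} (hS₀' : IsAffineOpen S₀') (hle' : S₀' ≤ gS ⁻¹ᵁ S₀) :
    IsAffineOpen (h ⁻¹ᵁ U ⊓ f' ⁻¹ᵁ S₀') ∧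
      letI : Algebra Γ(S', S₀') Γ(X', h ⁻¹ᵁ U ⊓ f' ⁻¹ᵁ S₀') :=
        (f'.appLE S₀' (h ⁻¹ᵁ U ⊓ f' ⁻¹ᵁ S₀') inf_le_right).hom.toAlgebra
      Submodule.span Γ(S', S₀') (Set.range (h.appLE U (h ⁻¹ᵁ U ⊓ f' ⁻¹ᵁ S₀') inf_le_left).hom) = ⊤ := by
  letI : Algebra Γ(S, S₀) Γ(X, U) := (f.appLE S₀ U hle).hom.toAlgebra
  letI : Algebra Γ(S, S₀) Γ(S', S₀') := (gS.appLE S₀ S₀' hle').hom.toAlgebra
  set U' := h ⁻¹ᵁ U ⊓ f' ⁻¹ᵁ S₀' with hU'
  let j := pullback.lift h f' w
  let σ := (pullbackSpecIso Γ(S, S₀) Γ(X, U) Γ(S', S₀')).inv ≫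
    pullback.map (Spec.map (CommRingCat.ofHom (algebraMap Γ(S, S₀) Γ(X, U))))
      (Spec.map (CommRingCat.ofHom (algebraMap Γ(S, S₀) Γ(S', S₀')))) f gS hU.fromSpec hS₀'.fromSpec hS₀.fromSpec
      (IsAffineOpen.SpecMap_appLE_fromSpec f hS₀ hU hle) (IsAffineOpen.SpecMap_appLE_fromSpec gS hS₀ hS₀' hle')
  haveI : IsOpenImmersion σ := inferInstance
  have hσ₁ : σ ≫ pullback.fst f gS =
      Spec.map (CommRingCat.ofHom Algebra.TensorProduct.includeLeftRingHom) ≫ hU.fromSpec := by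
    simp only [σ, Category.assoc, pullback.lift_fst]
    exact pullbackSpecIso_inv_fst_assoc _ _ _ _
  have hσ₂ : σ ≫ pullback.snd f gS =
      Spec.map (CommRingCat.ofHom (Algebra.TensorProduct.includeRight (R := Γ(S, S₀)) (A := Γ(X, U))).toRingHom) ≫
        hS₀'.fromSpec := by
    simp only [σ, Category.assoc, pullback.lift_snd]
    exact pullbackSpecIso_inv_snd_assoc _ _ _ _
  have hrange : σ.opensRange = pullback.fst f gS ⁻¹ᵁ U ⊓ pullback.snd f gS ⁻¹ᵁ S₀' := by
    refine TopologicalSpace.Opens.ext ?_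
    rw [Scheme.Hom.coe_opensRange, Scheme.Hom.comp_base, TopCat.coe_comp,
      Set.range_comp, Set.range_eq_univ.2 (pullbackSpecIso Γ(S, S₀) Γ(X, U) Γ(S', S₀')).inv.surjective,
      Set.image_univ, Scheme.Pullback.range_map]
    exact congrArg₂ (fun a b => (pullback.fst f gS ⁻¹' a) ∩ (pullback.snd f gS ⁻¹' b)) hU.range_fromSpec
      hS₀'.range_fromSpec
  have hpre : j ⁻¹ᵁ σ.opensRange = U' := by
    rw [hrange, Scheme.Hom.preimage_inf, ← Scheme.Hom.comp_preimage, ← Scheme.Hom.comp_preimage, pullback.lift_fst,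
      pullback.lift_snd]
  haveI : IsAffine σ.opensRange.toScheme := isAffineOpen_opensRange σ
  have haff : IsAffineOpen U' := hpre ▸ (isAffineOpen_opensRange σ).preimage j
  refine ⟨haff, ?_⟩
  haveI : IsAffine U'.toScheme := haff
  haveI : IsClosedImmersion (j.resLE σ.opensRange U' hpre.ge) := by
    have e : j.resLE σ.opensRange U' hpre.ge = (X'.isoOfEq hpre.symm).hom ≫ (j ∣_ σ.opensRange) := by
      rw [← cancel_mono σ.opensRange.ι, Scheme.Hom.resLE_comp_ι, Category.assoc, morphismRestrict_ι,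
        Scheme.isoOfEq_hom_ι_assoc]
    haveI : IsClosedImmersion (j ∣_ σ.opensRange) := IsZariskiLocalAtTarget.restrict ‹_› _
    rw [e]; infer_instance
  let ψ := j.resLE σ.opensRange U' hpre.ge ≫ σ.isoOpensRange.inv
  have hψ : ψ ≫ σ = U'.ι ≫ j := by
    rw [Category.assoc, Scheme.Hom.isoOpensRange_inv_comp, Scheme.Hom.resLE_comp_ι]
  letI : Algebra Γ(S', S₀') Γ(X', U') := (f'.appLE S₀' U' inf_le_right).hom.toAlgebra
  letI : Algebra Γ(S, S₀) Γ(X', U') := ((f'.appLE S₀' U' inf_le_right).hom.comp (algebraMap Γ(S, S₀) Γ(S', S₀'))).toAlgebra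
  let a : Γ(X, U) →ₐ[Γ(S, S₀)] Γ(X', U') :=
    { __ := (h.appLE U U' inf_le_left).hom
      commutes' := fun r => by
        change (f.appLE S₀ U hle ≫ h.appLE U U' inf_le_left).hom r = (gS.appLE S₀ S₀' hle' ≫ f'.appLE S₀' U' inf_le_right).hom r
        rw [Scheme.Hom.appLE_comp_appLE, Scheme.Hom.appLE_comp_appLE]
        simp only [w] }
  let b : Γ(S', S₀') →ₐ[Γ(S, S₀)] Γ(X', U') :=
    { __ := (f'.appLE S₀' U' inf_le_right).hom
      commutes' := fun r => rfl }
  let φ := Algebra.TensorProduct.lift a b fun _ _ => Commute.all _ _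
  have hφ : ψ = U'.toSpecΓ ≫ Spec.map (CommRingCat.ofHom φ.toRingHom) := by
    have h1 : CommRingCat.ofHom (Algebra.TensorProduct.includeLeftRingHom (R := Γ(S, S₀)) (A := Γ(X, U)) (B := Γ(S', S₀'))) ≫
        CommRingCat.ofHom φ.toRingHom = h.appLE U U' inf_le_left := by
      refine CommRingCat.hom_ext (RingHom.ext fun x => ?_)
      change φ (x ⊗ₜ 1) = _
      rw [Algebra.TensorProduct.lift_tmul, map_one, mul_one]
      rfl
    have h2 : CommRingCat.ofHom (Algebra.TensorProduct.includeRight (R := Γ(S, S₀)) (A := Γ(X, U)) (B := Γ(S', S₀'))).toRingHom ≫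
        CommRingCat.ofHom φ.toRingHom = f'.appLE S₀' U' inf_le_right := by
      refine CommRingCat.hom_ext (RingHom.ext fun x => ?_)
      change φ (1 ⊗ₜ x) = _
      rw [Algebra.TensorProduct.lift_tmul, map_one, one_mul]
      rfl
    rw [← cancel_mono σ, hψ]
    apply pullback.hom_ext
    · rw [Category.assoc, pullback.lift_fst, Category.assoc, Category.assoc, hσ₁, ← Spec.map_comp_assoc, h1,
        Scheme.Opens.toSpecΓ_SpecMap_appLE_assoc, hU.toSpecΓ_fromSpec, Scheme.Hom.resLE_comp_ι]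
    · rw [Category.assoc, pullback.lift_snd, Category.assoc, Category.assoc, hσ₂, ← Spec.map_comp_assoc, h2,
        Scheme.Opens.toSpecΓ_SpecMap_appLE_assoc, hS₀'.toSpecΓ_fromSpec, Scheme.Hom.resLE_comp_ι]
  haveI : IsClosedImmersion ψ := inferInstance
  haveI : IsClosedImmersion (Spec.map (CommRingCat.ofHom φ.toRingHom)) := by
    have : Spec.map (CommRingCat.ofHom φ.toRingHom) = haff.isoSpec.inv ≫ ψ := by
      rw [hφ, IsAffineOpen.isoSpec_inv_toSpecΓ_assoc]
    rw [this]; infer_instance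
  have hsurj : Function.Surjective φ := by
    have h1 := (IsClosedImmersion.isAffine_surjective_of_isAffine (f := Spec.map (CommRingCat.ofHom φ.toRingHom))).2
    intro y
    obtain ⟨x, hx⟩ := h1 ((Scheme.ΓSpecIso _).inv y)
    refine ⟨(Scheme.ΓSpecIso _).hom x, ?_⟩
    have e := DFunLike.congr_fun (congrArg CommRingCat.Hom.hom (Scheme.ΓSpecIso_naturality (CommRingCat.ofHom φ.toRingHom))) x
    change (Scheme.ΓSpecIso _).hom ((Spec.map (CommRingCat.ofHom φ.toRingHom)).appTop x) = φ ((Scheme.ΓSpecIso _).hom x) at e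
    rw [← e, hx]
    exact DFunLike.congr_fun (congrArg CommRingCat.Hom.hom (Scheme.ΓSpecIso _).inv_hom_id) y
  refine eq_top_iff.2 fun y _ => ?_
  obtain ⟨t, rfl⟩ := hsurj y
  induction t using TensorProduct.induction_on with
  | zero => rw [map_zero]; exact zero_mem _
  | add x y hx hy => rw [map_add]; exact add_mem (hx trivial) (hy trivial)
  | tmul x r =>
    rw [Algebra.TensorProduct.lift_tmul, mul_comm, show b r * a x = r • a x from (Algebra.smul_def r _).symm]
    exact Submodule.smul_mem _ _ (Submodule.subset_span ⟨x, rfl⟩)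

variable {f : X ⟶ S} {d : ℕ} (C : Col f d)

/-- The chart of the source of a comparison. -/
def Col.primed (f' : X' ⟶ S') (gS : S' ⟶ S) (h : X' ⟶ X) (w : h ≫ f = f' ≫ gS)
    [IsClosedImmersion (pullback.lift h f' w)] (S₀' : S'.Opens) (hS₀' : IsAffineOpen S₀')
    (hle' : S₀' ≤ gS ⁻¹ᵁ C.S₀) : Col f' d where
  S₀ := S₀'
  hS₀ := hS₀'
  J := C.J
  c := C.c
  U j := h ⁻¹ᵁ C.U j ⊓ f' ⁻¹ᵁ S₀'
  hU j := (isAffineOpen_inter_and_span f f' gS h w (C.hU j) C.hS₀ (C.hle j) hS₀' hle').1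
  hle j := inf_le_right

/-- The map of fibre powers of a square. -/
def powMap (f : X ⟶ S) (f' : X' ⟶ S') (gS : S' ⟶ S) (h : X' ⟶ X) (w : h ≫ f = f' ≫ gS) (d : ℕ) :
    fibPow f' d ⟶ fibPow f d :=
  WidePullback.lift (WidePullback.base (fun _ : Fin d => f') ≫ gS)
    (fun i => WidePullback.π (fun _ : Fin d => f') i ≫ h) fun i => by
      rw [Category.assoc, w, WidePullback.π_arrow_assoc]

variable (f' : X' ⟶ S') (gS : S' ⟶ S) (h : X' ⟶ X) (w : h ≫ f = f' ≫ gS)

@[reassoc (attr := simp)]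
theorem powMap_π (i : Fin d) :
    powMap f f' gS h w d ≫ WidePullback.π (fun _ : Fin d => f) i = WidePullback.π (fun _ : Fin d => f') i ≫ h :=
  WidePullback.lift_π _ _ _ _ i

@[reassoc (attr := simp)]
theorem powMap_base :
    powMap f f' gS h w d ≫ WidePullback.base (fun _ : Fin d => f) = WidePullback.base (fun _ : Fin d => f') ≫ gS :=
  WidePullback.lift_base _ _ _ _

@[reassoc]
theorem permHom_powMap (σ : Equiv.Perm (Fin d)) :
    permHom f' d σ ≫ powMap f f' gS h w d = powMap f f' gS h w d ≫ permHom f d σ := by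
  apply WidePullback.hom_ext
  · intro i; rw [Category.assoc, powMap_π, permHom_π_assoc, Category.assoc, permHom_π, powMap_π]
  · rw [Category.assoc, powMap_base, permHom_base_assoc, Category.assoc, permHom_base, powMap_base]

variable [IsClosedImmersion (pullback.lift h f' w)] (S₀' : S'.Opens) (hS₀' : IsAffineOpen S₀')
  (hle' : S₀' ≤ gS ⁻¹ᵁ C.S₀)

theorem primed_H : (C.primed f' gS h w S₀' hS₀' hle').H = C.H := rfl

theorem primed_V : (C.primed f' gS h w S₀' hS₀' hle').V =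
    powMap f f' gS h w d ⁻¹ᵁ C.V ⊓ WidePullback.base (fun _ : Fin d => f') ⁻¹ᵁ S₀' := by
  refine TopologicalSpace.Opens.ext (Set.ext fun x => ?_)
  change x ∈ (C.primed f' gS h w S₀' hS₀' hle').V ↔ powMap f f' gS h w d x ∈ C.V ∧ _ ∈ S₀'
  rw [Col.mem_V, Col.mem_V]
  have hπ : ∀ i, WidePullback.π (fun _ : Fin d => f) i (powMap f f' gS h w d x) =
      h (WidePullback.π (fun _ : Fin d => f') i x) := fun i => by
    rw [← Scheme.Hom.comp_apply, powMap_π, Scheme.Hom.comp_apply]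
  have hb : WidePullback.base (fun _ : Fin d => f) (powMap f f' gS h w d x) =
      gS (WidePullback.base (fun _ : Fin d => f') x) := by
    rw [← Scheme.Hom.comp_apply, powMap_base, Scheme.Hom.comp_apply]
  refine ⟨fun ⟨h1, h2⟩ => ⟨⟨?_, fun i => ?_⟩, h1⟩, fun ⟨⟨_, h2⟩, h1⟩ => ⟨h1, fun i => ⟨?_, ?_⟩⟩⟩
  · rw [hb]; exact hle' h1
  · rw [hπ]; exact (h2 i).1
  · change h _ ∈ C.U (C.c i)
    rw [← hπ]; exact h2 i
  · change f' _ ∈ S₀'
    rw [← Scheme.Hom.comp_apply, WidePullback.π_arrow]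
    exact h1

theorem primed_V_le : (C.primed f' gS h w S₀' hS₀' hle').V ≤ powMap f f' gS h w d ⁻¹ᵁ C.V :=
  (primed_V C f' gS h w S₀' hS₀' hle').le.trans inf_le_left

/-- The map of colours. -/
def Col.φ : C.A → (C.primed f' gS h w S₀' hS₀' hle').A := fun a j =>
  (h.appLE (C.U j) (h ⁻¹ᵁ C.U j ⊓ f' ⁻¹ᵁ S₀') inf_le_left).hom (a j)

theorem span_φ : Submodule.span (C.primed f' gS h w S₀' hS₀' hle').R (Set.range (C.φ f' gS h w S₀' hS₀' hle')) = ⊤ := by
  classical
  let C' := C.primed f' gS h w S₀' hS₀' hle'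
  refine eq_top_iff.2 fun a _ => ?_
  rw [show a = ∑ j, Pi.single j (a j) from (Finset.univ_sum_single a).symm]
  refine Submodule.sum_mem _ fun j _ => ?_
  have hj := (isAffineOpen_inter_and_span f f' gS h w (C.hU j) C.hS₀ (C.hle j) hS₀' hle').2
  let e : Γ(X', C'.U j) →ₗ[C'.R] C'.A := LinearMap.single C'.R (fun i => Γ(X', C'.U i)) j
  have : a j ∈ Submodule.span C'.R (Set.range (h.appLE (C.U j) (C'.U j) inf_le_left).hom) := by
    exact (SetLike.ext_iff.1 hj (a j)).2 trivial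
  have h2 := Submodule.mem_map_of_mem (f := e) this
  rw [Submodule.map_span] at h2
  refine Submodule.span_mono ?_ h2
  rintro _ ⟨_, ⟨x, rfl⟩, rfl⟩
  refine ⟨Pi.single j x, funext fun i => ?_⟩
  rcases eq_or_ne i j with rfl | hne
  · simp [Col.φ, e, C']
    rfl
  · simp [Col.φ, e, C', Pi.single_eq_of_ne hne]

/-- The comparison of tensor powers. -/
def Col.Φ : C.T →+* (C.primed f' gS h w S₀' hS₀' hle').T :=
  let C' := C.primed f' gS h w S₀' hS₀' hle'
  letI : Algebra C.R C'.A :=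
    ((algebraMap C'.R C'.A).comp (gS.appLE C.S₀ S₀' hle').hom).toAlgebra
  letI : Algebra C.R C'.T := ((algebraMap C'.R C'.T).comp (gS.appLE C.S₀ S₀' hle').hom).toAlgebra
  let χ : C.A →ₐ[C.R] C'.A :=
    { toFun := C.φ f' gS h w S₀' hS₀' hle'
      map_one' := funext fun j => map_one _
      map_mul' := fun a b => funext fun j => map_mul _ _ _
      map_zero' := funext fun j => map_zero _
      map_add' := fun a b => funext fun j => map_add _ _ _
      commutes' := fun r => funext fun j => by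
        change (f.appLE C.S₀ (C.U j) (C.hle j) ≫ h.appLE (C.U j) (h ⁻¹ᵁ C.U j ⊓ f' ⁻¹ᵁ S₀') inf_le_left).hom r =
          (gS.appLE C.S₀ S₀' hle' ≫ f'.appLE S₀' (h ⁻¹ᵁ C.U j ⊓ f' ⁻¹ᵁ S₀') inf_le_right).hom r
        rw [Scheme.Hom.appLE_comp_appLE, Scheme.Hom.appLE_comp_appLE]
        simp only [w] }
  let sgl : Fin d → C'.A →ₐ[C.R] C'.T := fun i =>
    { __ := (PiTensorProduct.singleAlgHom (R := C'.R) (A := fun _ : Fin d => C'.A) i).toRingHom
      commutes' := fun r =>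
        (PiTensorProduct.singleAlgHom (R := C'.R) (A := fun _ : Fin d => C'.A) i).commutes _ }
  (piLift fun i => (sgl i).comp χ).toRingHom

theorem Φ_tprod (a : Fin d → C.A) : C.Φ f' gS h w S₀' hS₀' hle' (PiTensorProduct.tprod C.R a) =
    PiTensorProduct.tprod (C.primed f' gS h w S₀' hS₀' hle').R (C.φ f' gS h w S₀' hS₀' hle' ∘ a) := by
  simp only [Col.Φ, AlgHom.toRingHom_eq_coe, RingHom.coe_coe, piLift_tprod]
  rw [tprod_eq_prod_single]
  rfl

theorem Φ_algebraMap (r : C.R) : C.Φ f' gS h w S₀' hS₀' hle' (algebraMap C.R C.T r) =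
    algebraMap (C.primed f' gS h w S₀' hS₀' hle').R (C.primed f' gS h w S₀' hS₀' hle').T
      ((gS.appLE C.S₀ S₀' hle').hom r) := by
  letI : Algebra C.R (C.primed f' gS h w S₀' hS₀' hle').T :=
    ((algebraMap (C.primed f' gS h w S₀' hS₀' hle').R (C.primed f' gS h w S₀' hS₀' hle').T).comp
      (gS.appLE C.S₀ S₀' hle').hom).toAlgebra
  simp only [Col.Φ, AlgHom.toRingHom_eq_coe, RingHom.coe_coe]
  exact AlgHom.commutes _ r

theorem θ_Φ (t : C.T) : (C.primed f' gS h w S₀' hS₀' hle').θ (C.Φ f' gS h w S₀' hS₀' hle' t) =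
    ((powMap f f' gS h w d).appLE C.V _ (primed_V_le C f' gS h w S₀' hS₀' hle')).hom (C.θ t) := by
  set C' := C.primed f' gS h w S₀' hS₀' hle' with hC'
  set ν := ((powMap f f' gS h w d).appLE C.V C'.V (primed_V_le C f' gS h w S₀' hS₀' hle')).hom with hν
  have hp : ∀ a, C'.θ (C.Φ f' gS h w S₀' hS₀' hle' (PiTensorProduct.tprod C.R a)) = ν (C.θ (PiTensorProduct.tprod C.R a)) := fun a => by
    rw [Φ_tprod, Col.θ_tprod, Col.θ_tprod, map_prod]
    refine Finset.prod_congr rfl fun i _ => ?_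
    change (h.appLE (C.U (C.c i)) (C'.U (C.c i)) inf_le_left ≫
        (WidePullback.π (fun _ : Fin d => f') i).appLE _ C'.V (C'.V_le_π i)).hom (a i (C.c i)) =
      ((WidePullback.π (fun _ : Fin d => f) i).appLE (C.U (C.c i)) C.V (C.V_le_π i) ≫
        (powMap f f' gS h w d).appLE C.V C'.V (primed_V_le C f' gS h w S₀' hS₀' hle')).hom (a i (C.c i))
    rw [Scheme.Hom.appLE_comp_appLE, Scheme.Hom.appLE_comp_appLE]
    simp only [powMap_π]
  induction t using PiTensorProduct.induction_on with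
  | smul_tprod r a =>
    rw [show r • PiTensorProduct.tprod C.R a = algebraMap C.R C.T r * PiTensorProduct.tprod C.R a from Algebra.smul_def (R := C.R) (A := ⨂[C.R] _ : Fin d, C.A) r _]
    simp only [map_mul, hp, Φ_algebraMap, AlgHom.commutes]
    congr 1
    on_goal 2 => exact hp a
    change ((WidePullback.base (fun _ : Fin d => f')).appLE S₀' C'.V C'.V_le_base).hom ((gS.appLE C.S₀ S₀' hle').hom r) =
      ((WidePullback.base (fun _ : Fin d => f)).appLE C.S₀ C.V C.V_le_base ≫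
        (powMap f f' gS h w d).appLE C.V C'.V (primed_V_le C f' gS h w S₀' hS₀' hle')).hom r
    rw [← CommRingCat.comp_apply, Scheme.Hom.appLE_comp_appLE, Scheme.Hom.appLE_comp_appLE]
    simp only [powMap_base]
  | add x y hx hy => simp only [map_add, hx, hy]

end SymProdCmp
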