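import Groth.Agent.SymProdCmpLib.Local

/-!
# Transfer from partially invariant functions to invariant functions
-/

set_option autoImplicit false
set_option backward.isDefEq.respectTransparency false
set_option backward.isDefEq.respectTransparency.types false
noncomputable section

universe u

open CategoryTheory CategoryTheory.Limits AlgebraicGeometry TopologicalSpace SymProd
open scoped TensorProduct

namespace SymProdCmp

theorem evaluation_res {Z : Scheme.{u}} {U D : Z.Opens} (h : D ≤ U) (x : Z) (hx : x ∈ D) (s : Γ(Z, U)) :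
    Z.evaluation D x hx (resTo h s) = Z.evaluation U x (h hx) s := by
  change (Z.presheaf.map (homOfLE h).op ≫ Z.presheaf.germ D x hx ≫ Z.residue x).hom s = _
  rw [TopCat.Presheaf.germ_res_assoc]
  rfl

variable {X S Y : Scheme.{u}} {f : X ⟶ S} {d : ℕ} {q : fibPow f d ⟶ Y} {z : fibPow f d}

namespace Loc

variable (L : Loc f d q z)

/-- The invariant affine open. -/
abbrev W : (fibPow f d).Opens := q ⁻¹ᵁ L.VY

theorem W_stable (σ : Equiv.Perm (Fin d)) : L.W ≤ permHom f d σ ⁻¹ᵁ L.W := by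
  rw [← Scheme.Hom.comp_preimage, L.hinv]

theorem D_le_W : L.D ≤ L.W := L.D_eq ▸ (fibPow f d).basicOpen_le _

theorem D_le_V : L.D ≤ L.C.V := L.D_eq' ▸ (fibPow f d).basicOpen_le _

theorem mem_W : z ∈ L.W := L.D_le_W L.mem

theorem mem_V : z ∈ L.C.V := L.D_le_V L.mem

/-- The left action on the functions. -/
def b (σ : Equiv.Perm (Fin d)) : Γ(fibPow f d, L.W) →+* Γ(fibPow f d, L.W) :=
  pullSelf (permHom f d σ⁻¹) (L.W_stable _)

theorem b_mul (σ τ : Equiv.Perm (Fin d)) (y : Γ(fibPow f d, L.W)) : L.b (σ * τ) y = L.b σ (L.b τ y) := by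
  change _ = ((permHom f d τ⁻¹).appLE L.W L.W (L.W_stable _) ≫ (permHom f d σ⁻¹).appLE L.W L.W (L.W_stable _)).hom y
  rw [Scheme.Hom.appLE_comp_appLE]
  simp only [← permHom_mul, ← mul_inv_rev]
  rfl

/-- The functions fixed by the permutations preserving the colours. -/
def IsFix (y : Γ(fibPow f d, L.W)) : Prop := ∀ σ ∈ L.C.H, L.b σ y = y

theorem isFix_e : L.IsFix L.e := fun σ hσ => L.he σ⁻¹ (L.C.H.inv_mem hσ) _

theorem IsFix.mul {y y' : Γ(fibPow f d, L.W)} (h : L.IsFix y) (h' : L.IsFix y') : L.IsFix (y * y') :=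
  fun σ hσ => by rw [map_mul, h σ hσ, h' σ hσ]

theorem IsFix.pow {y : Γ(fibPow f d, L.W)} (h : L.IsFix y) (n : ℕ) : L.IsFix (y ^ n) :=
  fun σ hσ => by rw [map_pow, h σ hσ]

theorem isFix_one : L.IsFix 1 := fun σ _ => map_one _

instance : Fintype (Equiv.Perm (Fin d) ⧸ L.C.H) := Fintype.ofFinite _

/-- The transfer. -/
def tr (y : Γ(fibPow f d, L.W)) : Γ(fibPow f d, L.W) :=
  ∑ p : Equiv.Perm (Fin d) ⧸ L.C.H, L.b p.out y

theorem tr_add (y y' : Γ(fibPow f d, L.W)) : L.tr (y + y') = L.tr y + L.tr y' := by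
  simp only [tr, map_add, Finset.sum_add_distrib]

theorem tr_zero : L.tr 0 = 0 := by simp [tr]

theorem tr_sum {ι : Type*} (s : Finset ι) (y : ι → Γ(fibPow f d, L.W)) : L.tr (∑ i ∈ s, y i) = ∑ i ∈ s, L.tr (y i) := by
  simp only [tr, map_sum]
  exact Finset.sum_comm

theorem tr_inv {y : Γ(fibPow f d, L.W)} (hy : L.IsFix y) (π : Equiv.Perm (Fin d)) : L.b π (L.tr y) = L.tr y := by
  rw [tr, map_sum]
  refine Fintype.sum_equiv (MulAction.toPerm π) _ _ fun p => ?_
  rw [← b_mul]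
  have h : ((π * p.out : Equiv.Perm (Fin d)) : Equiv.Perm (Fin d) ⧸ L.C.H) = π • p := by
    conv_rhs => rw [← QuotientGroup.out_eq' p]
    rfl
  obtain ⟨h', hh⟩ := QuotientGroup.mk_out_eq_mul L.C.H (π * p.out)
  change L.b (π * p.out) y = L.b (π • p).out y
  rw [← h, hh, b_mul L (π * p.out) h'.1, hy _ h'.2]

theorem tr_mul_inv (u : Γ(fibPow f d, L.W)) (hu : ∀ π, L.b π u = u) (y : Γ(fibPow f d, L.W)) :
    L.tr (u * y) = u * L.tr y := by
  simp only [tr, map_mul, hu, Finset.mul_sum]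

theorem appLE_inv (v : Γ(Y, L.VY)) (π : Equiv.Perm (Fin d)) :
    L.b π ((q.appLE L.VY L.W le_rfl).hom v) = (q.appLE L.VY L.W le_rfl).hom v := by
  change (q.appLE L.VY L.W le_rfl ≫ (permHom f d π⁻¹).appLE L.W L.W (L.W_stable _)).hom v = _
  rw [Scheme.Hom.appLE_comp_appLE]
  simp only [L.hinv]

theorem tr_mem_range (hq : SGA1.IsQuot (permActU f d) q) {y : Γ(fibPow f d, L.W)} (hy : L.IsFix y) :
    ∃ v : Γ(Y, L.VY), (q.appLE L.VY L.W le_rfl).hom v = L.tr y := by
  obtain ⟨v, hv⟩ := (hq.range_iff L.VY (L.tr y)).2 fun σ => by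
    have := L.tr_inv hy σ.down⁻¹
    simpa [b, inv_inv] using this
  refine ⟨v, ?_⟩
  rw [← hv, Scheme.Hom.app_eq_appLE]

theorem eval_b_eq_zero {σ : Equiv.Perm (Fin d)} (hσ : σ ∉ L.C.H) :
    (fibPow f d).evaluation L.W z L.mem_W (L.b σ L.e) = 0 := by
  rw [Scheme.evaluation_eq_zero_iff_notMem_basicOpen, b, basicOpen_pullSelf]
  intro h
  refine hσ ?_
  have := L.sep σ⁻¹ (L.D_eq ▸ h.2)
  simpa using L.C.H.inv_mem this

theorem eval_tr {y : Γ(fibPow f d, L.W)} (hy : L.IsFix y) :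
    (fibPow f d).evaluation L.W z L.mem_W (L.tr (L.e * y)) = (fibPow f d).evaluation L.W z L.mem_W (L.e * y) := by
  rw [tr, map_sum, Finset.sum_eq_single (QuotientGroup.mk 1) (fun p _ hp => ?_) (fun h => absurd (Finset.mem_univ _) h)]
  · obtain ⟨h', hh⟩ := QuotientGroup.mk_out_eq_mul L.C.H (1 : Equiv.Perm (Fin d))
    rw [hh, one_mul, IsFix.mul L L.isFix_e hy _ h'.2]
  · rw [map_mul, map_mul, L.eval_b_eq_zero (fun h => hp ?_), zero_mul]
    rw [← QuotientGroup.out_eq' p]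
    exact QuotientGroup.eq.2 (by simpa using L.C.H.inv_mem h)

theorem eval_e_ne_zero : (fibPow f d).evaluation L.W z L.mem_W L.e ≠ 0 := by
  rw [Scheme.evaluation_ne_zero_iff_mem_basicOpen, ← L.D_eq]
  exact L.mem

theorem eval_t₀_ne_zero : (fibPow f d).evaluation L.C.V z L.mem_V L.t₀ ≠ 0 := by
  rw [Scheme.evaluation_ne_zero_iff_mem_basicOpen, ← L.D_eq']
  exact L.mem

theorem D_stable {σ : Equiv.Perm (Fin d)} (hσ : σ ∈ L.C.H) : L.D ≤ permHom f d σ ⁻¹ᵁ L.D := by
  have := le_preimage_basicOpen (permHom f d σ) (L.W_stable σ) (L.he σ hσ _)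
  rwa [← L.D_eq] at this

/-- An invariant function of the chart is, on the small open, a fraction with partially invariant numerator. -/
theorem exists_fix_lift {x : Γ(fibPow f d, L.C.V)} (hx : x ∈ L.C.inv) :
    ∃ (k : ℕ) (y : Γ(fibPow f d, L.W)), L.IsFix y ∧
      resTo L.D_le_W y = resTo L.D_le_V x * resTo L.D_le_W L.e ^ k := by
  obtain ⟨k, y, hy, hxy⟩ := exists_fixed_lift (fun σ : L.C.H => permHom f d σ.1) L.hW (fun σ => L.W_stable σ.1)
    (fun σ => L.D_stable σ.2) L.D_eq L.D_le_W (fun σ => L.he σ.1 σ.2 _) (x := resTo L.D_le_V x)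
    (fun σ => by rw [pullSelf_res _ (L.C.V_le_preimage σ.2)]; exact congrArg _ (hx σ))
  exact ⟨k, y, fun σ hσ => hy ⟨σ⁻¹, L.C.H.inv_mem hσ⟩, hxy⟩

/-- The values at the point of invariant functions of the chart lie in any subfield containing the values of functions
pulled back from the quotient. -/
theorem eval_mem (hq : SGA1.IsQuot (permActU f d) q) (E : Subfield ((fibPow f d).residueField z))
    (hE : ∀ v : Γ(Y, L.VY), (fibPow f d).evaluation L.W z L.mem_W ((q.appLE L.VY L.W le_rfl).hom v) ∈ E)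
    {x : Γ(fibPow f d, L.C.V)} (hx : x ∈ L.C.inv) : (fibPow f d).evaluation L.C.V z L.mem_V x ∈ E := by
  have hmem : ∀ y, L.IsFix y → (fibPow f d).evaluation L.W z L.mem_W (L.e * y) ∈ E := fun y hy => by
    obtain ⟨v, hv⟩ := L.tr_mem_range hq (IsFix.mul L L.isFix_e hy)
    rw [← L.eval_tr hy, ← hv]
    exact hE v
  have he : (fibPow f d).evaluation L.W z L.mem_W L.e ∈ E := by
    simpa using hmem 1 L.isFix_one
  obtain ⟨k, y, hy, hxy⟩ := L.exists_fix_lift hx
  have h := congrArg ((fibPow f d).evaluation L.D z L.mem) hxy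
  rw [map_mul, map_pow, evaluation_res, evaluation_res, evaluation_res] at h
  have hk : ((fibPow f d).evaluation L.W z L.mem_W L.e) ^ k ≠ 0 := pow_ne_zero _ L.eval_e_ne_zero
  have hy' : (fibPow f d).evaluation L.W z L.mem_W y ∈ E := by
    have := hmem y hy
    rw [map_mul] at this
    have h2 := mul_mem (inv_mem he) this
    rwa [inv_mul_cancel_left₀ L.eval_e_ne_zero] at h2
  rw [show (fibPow f d).evaluation L.C.V z L.mem_V x =
    (fibPow f d).evaluation L.W z L.mem_W y * (((fibPow f d).evaluation L.W z L.mem_W L.e) ^ k)⁻¹ by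
      rw [h, mul_inv_cancel_right₀ hk]]
  exact mul_mem hy' (inv_mem (pow_mem he k))

end Loc

end SymProdCmp
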